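import Groth.Agent.H7.PC.Cone

/-! Iterated modifications and their colimit (SGA 6 I 1). -/

set_option backward.isDefEq.respectTransparency false
set_option linter.unusedSectionVars false

universe w v u

open CategoryTheory CategoryTheory.Limits ZeroObject CategoryTheory.Pretriangulated HomologicalComplex CochainComplex.HomComplex

namespace Groth.Agent.H7.PC

variable {C : Type u} [Category.{v} C] [Abelian C]

open CochainComplex (mappingCone)

lemma P_biprod (P : ObjectProperty C) [P.IsClosedUnderIsomorphisms] (hsum : ∀ X Y : C, P X → P Y → P (X ⨯ Y))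
    {X Y : C} (hX : P X) (hY : P Y) : P (X ⊞ Y) :=
  P.prop_of_iso (biprod.isoProd X Y).symm (hsum X Y hX hY)

lemma P_cone (P : ObjectProperty C) [P.IsClosedUnderIsomorphisms] (hsum : ∀ X Y : C, P X → P Y → P (X ⨯ Y))
    {K L : CochainComplex C ℤ} (φ : K ⟶ L) (i : ℤ) (hK : P (K.X (i + 1))) (hL : P (L.X i)) :
    P ((mappingCone φ).X i) :=
  P.prop_of_iso (homotopyCofiber.XIsoBiprod φ i (i + 1) rfl).symm (P_biprod P hsum hK hL)

lemma P_single (P : ObjectProperty C) [P.IsClosedUnderIsomorphisms] [P.ContainsZero] {G : C} (hG : P G) (n i : ℤ) :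
    P (((CochainComplex.singleFunctor C n).obj G).X i) := by
  by_cases hi : i = n
  · subst hi; exact P.prop_of_iso (singleObjXSelf (ComplexShape.up ℤ) i G).symm hG
  · exact P.prop_of_isZero (isZero_single_obj_X _ _ _ _ hi)

/-- `E'` is obtained from `E` by adding `P`-objects in the degrees of `S` -/
structure IsMod (P : ObjectProperty C) (S : Set ℤ) {E E' : CochainComplex C ℤ} (v : E ⟶ E') : Prop where
  mono : ∀ i, Mono (v.f i)
  iso : ∀ i, i ∉ S → IsIso (v.f i)
  prop : ∀ i, P (E.X i) → P (E'.X i)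

lemma IsMod.refl (P : ObjectProperty C) (S : Set ℤ) (E : CochainComplex C ℤ) : IsMod P S (𝟙 E) :=
  ⟨fun i => by rw [id_f]; infer_instance, fun i _ => by rw [id_f]; infer_instance, fun i h => h⟩

lemma IsMod.comp {P : ObjectProperty C} {S T : Set ℤ} {E E' E'' : CochainComplex C ℤ} {v : E ⟶ E'} {v' : E' ⟶ E''}
    (h : IsMod P S v) (h' : IsMod P T v') : IsMod P (S ∪ T) (v ≫ v') :=
  ⟨fun i => by haveI := h.mono i; haveI := h'.mono i; rw [comp_f]; infer_instance,
    fun i hi => by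
      haveI := h.iso i (fun e => hi (Or.inl e)); haveI := h'.iso i (fun e => hi (Or.inr e))
      rw [comp_f]; infer_instance,
    fun i hi => h'.prop i (h.prop i hi)⟩

lemma IsMod.weaken {P : ObjectProperty C} {S T : Set ℤ} {E E' : CochainComplex C ℤ} {v : E ⟶ E'}
    (h : IsMod P S v) (hST : S ⊆ T) : IsMod P T v :=
  ⟨h.mono, fun i hi => h.iso i (fun e => hi (hST e)), h.prop⟩

/-- one step (SGA 6 I 1.4) -/
lemma exists_step (P : ObjectProperty C) [P.IsClosedUnderIsomorphisms] [P.ContainsZero]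
    (hsum : ∀ X Y : C, P X → P Y → P (X ⨯ Y)) (hql : PCoh.IsQuasiLiftable P) {E F : CochainComplex C ℤ} (u : E ⟶ F)
    (n : ℤ) (h : NQ u (n + 1)) (hft : PCoh.IsOfFiniteType P ((mappingCone u).homology n)) :
    ∃ (E' : CochainComplex C ℤ) (v : E ⟶ E') (u' : E' ⟶ F), v ≫ u' = u ∧ IsMod P {n} v ∧
      P (cokernel (v.f n)) ∧ NQ u' n := by
  obtain ⟨G₀, π₀, hG₀, hπ₀⟩ := hft
  haveI := hπ₀
  obtain ⟨G, g, hG, hg⟩ := hql _ G₀ (pullback.snd ((mappingCone u).homologyπ n) π₀) inferInstance hG₀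
  set q := g ≫ pullback.fst ((mappingCone u).homologyπ n) π₀ with hq
  have hepi : Epi (q ≫ (mappingCone u).homologyπ n) := by
    rw [hq, Category.assoc, pullback.condition, ← Category.assoc]
    haveI := hg; infer_instance
  set z := q ≫ (mappingCone u).iCycles n
  have hz : z ≫ (mappingCone u).d n (n + 1) = 0 := by simp [z]
  have e : (mappingCone u).liftCycles z (n + 1) (CochainComplex.next ℤ n) hz = q := by
    rw [← cancel_mono ((mappingCone u).iCycles n), liftCycles_i]
  refine ⟨stepCx u n z hz, stepInr u n z hz, stepDesc u n z hz, inr_stepDesc u n z hz,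
    ⟨fun i => mono_inr _ i, fun i hi => isIso_stepInr u n z hz i hi,
      fun i hi => P_cone P hsum _ i (P_single P hG _ _) hi⟩,
    P.prop_of_iso (cokerIso u n z hz).symm hG, nq_step u n z hz h (by rw [e]; exact hepi)⟩

/-- descending iteration -/
lemma exists_iter (P : ObjectProperty C) [P.IsClosedUnderIsomorphisms] [P.ContainsZero]
    (hsum : ∀ X Y : C, P X → P Y → P (X ⨯ Y)) (hql : PCoh.IsQuasiLiftable P) {F : CochainComplex C ℤ}
    (Inv : CochainComplex C ℤ → Prop) (n : ℤ)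
    (hft : ∀ (E : CochainComplex C ℤ) (u : E ⟶ F) (j : ℤ), n ≤ j → Inv E → NQ u (j + 1) →
      PCoh.IsOfFiniteType P ((mappingCone u).homology j))
    (hInv : ∀ (E E' : CochainComplex C ℤ) (v : E ⟶ E') (j : ℤ), n ≤ j → Inv E → IsMod P {j} v → Inv E') :
    ∀ (d : ℕ) (E : CochainComplex C ℤ) (u : E ⟶ F), Inv E → NQ u (n + d) →
      ∃ (E' : CochainComplex C ℤ) (v : E ⟶ E') (u' : E' ⟶ F), v ≫ u' = u ∧
        IsMod P (Set.Ico n (n + d)) v ∧ Inv E' ∧ NQ u' n := by
  intro d
  induction d with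
  | zero => intro E u hE h; exact ⟨E, 𝟙 E, u, Category.id_comp u, IsMod.refl _ _ _, hE, by simpa using h⟩
  | succ d ih =>
    intro E u hE h
    have hn : n ≤ n + (d : ℤ) := by omega
    rw [Nat.cast_succ, ← add_assoc] at h ⊢
    obtain ⟨E₁, v₁, u₁, e₁, hv₁, -, h₁⟩ := exists_step P hsum hql u (n + d) h (hft E u _ hn hE h)
    obtain ⟨E₂, v₂, u₂, e₂, hv₂, hI, h₂⟩ := ih E₁ u₁ (hInv E E₁ v₁ _ hn hE hv₁) h₁
    refine ⟨E₂, v₁ ≫ v₂, u₂, by rw [Category.assoc, e₂, e₁], (hv₁.comp hv₂).weaken ?_, hI, h₂⟩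
    rintro i (rfl | ⟨h1, h2⟩) <;> constructor <;> omega

lemma isIso_map_cone {E E' F : CochainComplex C ℤ} (a : E ⟶ E') (u : E ⟶ F) (u' : E' ⟶ F) (h : a ≫ u' = u)
    (j : ℤ) [IsIso (a.f (j + 1))] :
    IsIso ((CochainComplex.mappingCone.map u u' a (𝟙 F) (by rw [Category.comp_id, h])).f j) := by
  refine ⟨(CochainComplex.mappingCone.fst u').1.v j (j + 1) rfl ≫ inv (a.f (j + 1)) ≫
      (CochainComplex.mappingCone.inl u).v (j + 1) j (by omega)
    + (CochainComplex.mappingCone.snd u').v j j (add_zero j) ≫ (CochainComplex.mappingCone.inr u).f j, ?_, ?_⟩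
  · apply CochainComplex.mappingCone.ext_from u (j + 1) j rfl
    · simp [CochainComplex.mappingCone.map, IsIso.hom_inv_id_assoc]
    · simp [CochainComplex.mappingCone.map]
  · apply CochainComplex.mappingCone.ext_from u' (j + 1) j rfl
    · simp [CochainComplex.mappingCone.map]
    · simp [CochainComplex.mappingCone.map]

lemma exactAt_of_isIso {K L : CochainComplex C ℤ} (M : K ⟶ L) (j : ℤ) [IsIso (M.f (j - 1))] [IsIso (M.f j)]
    [IsIso (M.f (j + 1))] (h : K.ExactAt j) : L.ExactAt j := by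
  rw [exactAt_iff' _ (j - 1) j (j + 1) (by simp) (by simp)] at h ⊢
  exact ShortComplex.exact_of_iso (ShortComplex.isoMk (S₁ := K.sc' (j - 1) j (j + 1)) (S₂ := L.sc' (j - 1) j (j + 1)) (asIso (M.f (j - 1))) (asIso (M.f j)) (asIso (M.f (j + 1)))
    (M.comm _ _) (M.comm _ _)) h

/-- a stage of the infinite construction -/
structure Stage (F : CochainComplex C ℤ) where
  cx : CochainComplex C ℤ
  map : cx ⟶ F

/-- the infinite construction (SGA 6 I 1.4) -/
lemma exists_complete (P : ObjectProperty C) [P.IsClosedUnderIsomorphisms] [P.ContainsZero]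
    (hsum : ∀ X Y : C, P X → P Y → P (X ⨯ Y)) (hql : PCoh.IsQuasiLiftable P) {F : CochainComplex C ℤ}
    (Inv : CochainComplex C ℤ → Prop) (k : ℤ)
    (hft : ∀ (E : CochainComplex C ℤ) (u : E ⟶ F) (j : ℤ), j < k → Inv E → NQ u (j + 1) →
      PCoh.IsOfFiniteType P ((mappingCone u).homology j))
    (hInv : ∀ (E E' : CochainComplex C ℤ) (v : E ⟶ E') (j : ℤ), j < k → Inv E → IsMod P {j} v → Inv E')
    {E : CochainComplex C ℤ} (u : E ⟶ F) (hE : Inv E) (h : NQ u k) :
    ∃ (E' : CochainComplex C ℤ) (v : E ⟶ E') (u' : E' ⟶ F), v ≫ u' = u ∧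
      IsMod P (Set.Iio k) v ∧ QuasiIso u' := by
  let T := fun d : ℕ => { s : Stage F // Inv s.cx ∧ NQ s.map (k - d) }
  have step : ∀ (d : ℕ) (s : T d), ∃ (t : T (d + 1)) (v : s.1.cx ⟶ t.1.cx),
      v ≫ t.1.map = s.1.map ∧ IsMod P {k - (d + 1 : ℤ)} v := by
    intro d s
    have hnq : NQ s.1.map (k - (d + 1 : ℤ) + 1) := s.2.2.mono (by omega)
    obtain ⟨E', v, u', e, hv, -, h'⟩ := exists_step P hsum hql s.1.map _ hnq (hft _ _ _ (by omega) s.2.1 hnq)
    exact ⟨⟨⟨E', u'⟩, hInv _ _ v _ (by omega) s.2.1 hv, by simpa using h'⟩, v, e, hv⟩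
  choose t v hv1 hv2 using step
  let seq : ∀ d, T d := fun d => Nat.rec ⟨⟨E, u⟩, hE, by simpa using h⟩ t d
  let X : ℕ → CochainComplex C ℤ := fun d => (seq d).1.cx
  let f : ∀ d, X d ⟶ X (d + 1) := fun d => v d (seq d)
  let D := Functor.ofSequence f
  have hmap : ∀ (a b : ℕ) (hab : a ≤ b), D.map (homOfLE hab) ≫ (seq b).1.map = (seq a).1.map ∧
      IsMod P {i | k - (b : ℤ) ≤ i ∧ i < k - a} (D.map (homOfLE hab)) := by
    intro a b hab
    induction b, hab using Nat.le_induction with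
    | base =>
      rw [show D.map (homOfLE (le_refl a)) = 𝟙 (X a) from D.map_id a]
      exact ⟨Category.id_comp _, IsMod.refl _ _ _⟩
    | succ b hab ih =>
      have e : D.map (homOfLE (hab.trans (Nat.le_add_right b 1))) = D.map (homOfLE hab) ≫ f b := by
        rw [← Functor.ofSequence_map_homOfLE_succ f b, ← D.map_comp, homOfLE_comp]
      rw [e]
      refine ⟨by rw [Category.assoc]; exact (congrArg _ (hv1 b (seq b))).trans ih.1, (ih.2.comp (hv2 b (seq b))).weaken ?_⟩
      rintro i (⟨h1, h2⟩ | h1)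
      · constructor <;> omega
      · simp only [Set.mem_singleton_iff] at h1
        constructor <;> omega
  have hconst : ∀ (i : ℤ) (a : ℕ), k - (a : ℤ) ≤ i → (D ⋙ eval C (ComplexShape.up ℤ) i).IsEventuallyConstantFrom a := by
    intro i a ha b φ
    obtain ⟨-, h2⟩ := hmap a b (leOfHom φ)
    exact h2.iso i (fun hh => by have := hh.2; omega)
  haveI : ∀ i, HasColimit (D ⋙ eval C (ComplexShape.up ℤ) i) := fun i =>
    (hconst i (k - i).toNat (by omega)).hasColimit
  have hisoι : ∀ (i : ℤ) (a : ℕ), k - (a : ℤ) ≤ i → IsIso ((colimit.ι D a).f i) := fun i a ha =>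
    (hconst i a ha).isIso_ι_of_isColimit' (isColimitOfPreserves (eval C (ComplexShape.up ℤ) i) (colimit.isColimit D)) a (𝟙 a)
  let c : Cocone D := Cocone.mk F
    { app := fun d => (seq d).1.map
      naturality := fun a b φ => by
        rw [show φ = homOfLE (leOfHom φ) from rfl]
        exact ((hmap a b _).1).trans (Category.comp_id _).symm }
  refine ⟨colimit D, colimit.ι D 0, colimit.desc D c, colimit.ι_desc c 0, ⟨fun i => ?_, fun i hi => ?_, fun i hi => ?_⟩, ?_⟩
  · haveI := hisoι i (k - i).toNat (by omega)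
    haveI := (hmap 0 (k - i).toNat (Nat.zero_le _)).2.mono i
    rw [← colimit.w D (homOfLE (Nat.zero_le (k - i).toNat)), comp_f]
    infer_instance
  · exact hisoι i 0 (by simp only [Set.mem_Iio, not_lt] at hi; omega)
  · haveI := hisoι i (k - i).toNat (by omega)
    exact P.prop_of_iso (asIso ((colimit.ι D (k - i).toNat).f i)) ((hmap 0 (k - i).toNat (Nat.zero_le _)).2.prop i hi)
  · rw [nq_quasiIso_iff]
    intro _ j _
    let a : ℕ := (k - j).toNat
    have ha : k - (a : ℤ) ≤ j := by omega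
    let M := CochainComplex.mappingCone.map (seq a).1.map (colimit.desc D c) (colimit.ι D a) (𝟙 F)
      (by rw [Category.comp_id]; exact (colimit.ι_desc c a).symm)
    haveI h1 : IsIso (M.f (j - 1)) := by
      haveI := hisoι (j - 1 + 1) a (by omega); exact isIso_map_cone _ _ _ (colimit.ι_desc c a) _
    haveI h2 : IsIso (M.f j) := by
      haveI := hisoι (j + 1) a (by omega); exact isIso_map_cone _ _ _ (colimit.ι_desc c a) _
    haveI h3 : IsIso (M.f (j + 1)) := by
      haveI := hisoι (j + 1 + 1) a (by omega); exact isIso_map_cone _ _ _ (colimit.ι_desc c a) _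
    exact exactAt_of_isIso M j ((seq a).2.2 j ha)

/-- completing a `k`-quasi-isomorphism to a quasi-isomorphism without changing degrees `≥ k` (SGA 6 I 1.4) -/
lemma exists_factorisation {E F : CochainComplex C ℤ} (u : E ⟶ F) (k : ℤ) (h : NQ u k) :
    ∃ (E' : CochainComplex C ℤ) (v : E ⟶ E') (u' : E' ⟶ F), v ≫ u' = u ∧ QuasiIso u' ∧
      (∀ i, Mono (v.f i)) ∧ ∀ i, k ≤ i → IsIso (v.f i) := by
  haveI : (⊤ : ObjectProperty C).IsClosedUnderIsomorphisms := ⟨fun _ _ => trivial⟩
  haveI : (⊤ : ObjectProperty C).ContainsZero := ⟨⟨0, isZero_zero C, trivial⟩⟩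
  obtain ⟨E', v, u', e, hv, hq⟩ := exists_complete (⊤ : ObjectProperty C) (fun _ _ _ _ => trivial)
    (fun A B q hq _ => ⟨A, 𝟙 A, trivial, by rw [Category.id_comp]; exact hq⟩) (fun _ => True) k
    (fun E u j _ _ _ => ⟨_, 𝟙 _, trivial, inferInstance⟩) (fun _ _ _ _ _ _ _ => trivial) u trivial h
  exact ⟨E', v, u', e, hq, hv.mono, fun i hi => hv.iso i (by simpa using hi)⟩

end Groth.Agent.H7.PC
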