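import Groth.Agent.H7.PC.Derived
import Groth.Agent.Roofs.Basic

/-! Characterisations of `n`-pseudo-coherence by maps (SGA 6 I 2.2). -/

set_option backward.isDefEq.respectTransparency false
set_option linter.unusedSectionVars false

universe w v u

open CategoryTheory CategoryTheory.Limits ZeroObject CategoryTheory.Pretriangulated HomologicalComplex
open DerivedCategory (Q)

namespace Groth.Agent.H7.PC

variable {C : Type u} [Category.{v} C] [Abelian C] [HasDerivedCategory.{w} C]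
variable {P : ObjectProperty C} [P.IsClosedUnderIsomorphisms] [P.ContainsZero]

open PCoh

/-- `n`-quasi-isomorphisms seen in `D(C)` -/
lemma nq_iff_Q {E F : CochainComplex C ℤ} (u : E ⟶ F) {X : DerivedCategory C} (e : Q.obj F ≅ X) (k : ℤ) :
    NQ u k ↔ (∀ i, k < i → IsIso ((DerivedCategory.homologyFunctor C i).map (Q.map u ≫ e.hom))) ∧
      Epi ((DerivedCategory.homologyFunctor C k).map (Q.map u ≫ e.hom)) := by
  have key : ∀ i, (IsIso ((DerivedCategory.homologyFunctor C i).map (Q.map u ≫ e.hom)) ↔ IsIso (homologyMap u i)) ∧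
      (Epi ((DerivedCategory.homologyFunctor C i).map (Q.map u ≫ e.hom)) ↔ Epi (homologyMap u i)) := by
    intro i
    let f : Arrow.mk ((DerivedCategory.homologyFunctor C i).map (Q.map u ≫ e.hom)) ≅ Arrow.mk (homologyMap u i) :=
      Arrow.isoMk (homologyQIso E i) ((DerivedCategory.homologyFunctor C i).mapIso e.symm ≪≫ homologyQIso F i) (by
        simpa [homologyQIso] using ((DerivedCategory.homologyFunctorFactors C i).hom.naturality u).symm)
    exact ⟨(MorphismProperty.isomorphisms C).arrow_mk_iso_iff f, (MorphismProperty.epimorphisms C).arrow_mk_iso_iff f⟩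
  rw [nq_iff, (key k).2]
  exact and_congr_left' (forall₂_congr fun i _ => (key i).1.symm)

variable (hsum : ∀ X Y : C, P X → P Y → P (X ⨯ Y)) (hqs : IsQuasiStableUnderKernels P) (hql : IsQuasiLiftable P)
include hsum hqs hql

/-- SGA 6 I 2.2 d -/
lemma pcn_iff_exists_bounded (n : ℤ) (F : DerivedCategory C) :
    PCn P n F ↔
      ∃ (E : CochainComplex C ℤ) (a b : ℤ) (α : Q.obj E ⟶ F),
        (∀ i : ℤ, i < a ∨ b < i → IsZero (E.X i)) ∧ (∀ i : ℤ, P (E.X i)) ∧
        (∀ i : ℤ, n < i → IsIso ((DerivedCategory.homologyFunctor C i).map α)) ∧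
        Epi ((DerivedCategory.homologyFunctor C n).map α) := by
  obtain ⟨K, ⟨e⟩⟩ : ∃ K, Nonempty (Q.obj K ≅ F) := ⟨_, ⟨Q.objObjPreimageIso F⟩⟩
  constructor
  · intro h
    obtain ⟨b, hb⟩ := h.exists_bound
    obtain ⟨E, u, hE, hP, hu⟩ := exists_bounded hsum hqs hql (h.of_iso e.symm) (k := max n (b + 1))
      (le_max_left _ _) fun i hi => (exactAt_iff_Q e i).2 (hb i (by omega))
    obtain ⟨h1, h2⟩ := (nq_iff_Q u e n).1 hu
    exact ⟨E, n, max n (b + 1), Q.map u ≫ e.hom, fun i hi => hE i (hi.imp id le_of_lt), hP, h1, h2⟩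
  · rintro ⟨E, a, b, α, hE, hP, h1, h2⟩
    obtain ⟨X', s, hs, g, hg⟩ := DerivedCategory.right_fac (α ≫ e.inv)
    haveI : QuasiIso s := (DerivedCategory.isIso_Q_map_iff_quasiIso (C := C) s).1 hs
    obtain ⟨E', v, hE', hv⟩ := exists_strict_qis hsum hqs hql (F := E) (n := n)
      ⟨⟨b, fun i hi => hE i (Or.inr hi)⟩, fun i _ => hP i⟩ s
    haveI : IsIso (Q.map v) := (DerivedCategory.isIso_Q_map_iff_quasiIso (C := C) v).2 hv
    have heq : Q.map (v ≫ g) ≫ e.hom = (Q.map v ≫ Q.map s) ≫ α := by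
      have : Q.map g = Q.map s ≫ α ≫ e.inv := by rw [hg, IsIso.hom_inv_id_assoc]
      rw [Q.map_comp, this]; simp
    refine (pcn_of_nq (v ≫ g) hE' ((nq_iff_Q (v ≫ g) e n).2 ⟨fun i hi => ?_, ?_⟩)).of_iso e
    · rw [heq, Functor.map_comp]
      haveI := h1 i hi
      infer_instance
    · rw [heq, Functor.map_comp]
      exact epi_comp _ _

/-- SGA 6 I 2.4 bis: roofs of strictly pseudo-coherent complexes -/
lemma exists_roof (E E' : CochainComplex C ℤ) (hE : IsStrictPCAll P E) (α : Q.obj E ⟶ Q.obj E') :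
    ∃ (E'' : CochainComplex C ℤ) (s : E'' ⟶ E) (f : E'' ⟶ E'), IsStrictPCAll P E'' ∧ QuasiIso s ∧
      Q.map s ≫ α = Q.map f := by
  obtain ⟨X', s, hs, g, hg⟩ := DerivedCategory.right_fac α
  haveI : QuasiIso s := (DerivedCategory.isIso_Q_map_iff_quasiIso (C := C) s).1 hs
  obtain ⟨E'', v, hE'', hv⟩ := exists_all_qis hsum hqs hql (F := X')
    fun m => (⟨E, strict_of_all hE m, ⟨(asIso (Q.map s)).symm⟩⟩ : PCn P m (Q.obj X'))
  exact ⟨E'', v ≫ s, v ≫ g, hE'', quasiIso_comp _ _, by rw [Q.map_comp, Q.map_comp, hg, Category.assoc, IsIso.hom_inv_id_assoc]⟩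

lemma exists_equalizing (E E' : CochainComplex C ℤ) (hE : IsStrictPCAll P E) (f g : E ⟶ E')
    (hfg : Q.map f = Q.map g) :
    ∃ (E'' : CochainComplex C ℤ) (s : E'' ⟶ E), IsStrictPCAll P E'' ∧ QuasiIso s ∧ Nonempty (Homotopy (s ≫ f) (s ≫ g)) := by
  obtain ⟨b, hb⟩ := hE.1
  haveI : E.IsStrictlyLE b := (CochainComplex.isStrictlyLE_iff E b).2 hb
  obtain ⟨K, -, t, ht, ⟨H⟩⟩ := Groth.Agent.Roofs.exists_right E E' b f g hfg
  haveI : IsIso (Q.map t) := (DerivedCategory.isIso_Q_map_iff_quasiIso (C := C) t).2 ht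
  obtain ⟨E'', v, hE'', hv⟩ := exists_all_qis hsum hqs hql (F := K)
    fun m => (⟨E, strict_of_all hE m, ⟨(asIso (Q.map t)).symm⟩⟩ : PCn P m (Q.obj K))
  exact ⟨E'', v ≫ t, hE'', quasiIso_comp _ _,
    ⟨(Homotopy.ofEq (Category.assoc _ _ _)).trans ((H.compLeft v).trans (Homotopy.ofEq (Category.assoc _ _ _).symm))⟩⟩

/-- SGA 6 I 2.6: completing an `i`-quasi-isomorphism by a strictly `n`-pseudo-coherent complex -/
lemma exists_extend {n i : ℤ} {E F : CochainComplex C ℤ} (hE : IsStrictPC P n E) (hF : PCn P n (Q.obj F))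
    (u : E ⟶ F) (hu : NQ u i) :
    ∃ (E' : CochainComplex C ℤ) (v : E ⟶ E') (u' : E' ⟶ F), v ≫ u' = u ∧ IsStrictPC P n E' ∧ QuasiIso u' ∧
      (∀ j : ℤ, Mono (v.f j)) ∧ (∀ j : ℤ, i ≤ j → IsIso (v.f j)) := by
  by_cases h : i ≤ n
  · obtain ⟨E', v, u', e, hq, hm, hi⟩ := exists_factorisation u i hu
    exact ⟨E', v, u', e, strict_of_iso_ge h v hi hE, hq, hm, hi⟩
  · obtain ⟨E₁, v₁, u₁, e₁, hv₁, hE₁, hu₁⟩ := exists_iter_pc hsum hqs hql hF u hE (le_of_not_ge h) hu
    obtain ⟨E', v, u', e, hq, hm, hi⟩ := exists_factorisation u₁ n hu₁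
    refine ⟨E', v₁ ≫ v, u', by rw [Category.assoc, e, e₁], strict_of_iso_ge le_rfl v hi hE₁, hq,
      fun j => ?_, fun j hj => ?_⟩
    · haveI := hv₁.mono j
      haveI := hm j
      rw [comp_f]; infer_instance
    · haveI := hv₁.iso j (fun hj' => by have := hj'.2; omega)
      haveI := hi j (by omega)
      rw [comp_f]; infer_instance

end Groth.Agent.H7.PC
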