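import Mathlib
import Groth.Prelude.Def_PCoh

/-! Quasi-isomorphisms in degrees `≥ n`, and the one-step modification (SGA 6 I 1). -/

set_option backward.isDefEq.respectTransparency false
set_option linter.unusedSectionVars false

universe w v u

open CategoryTheory CategoryTheory.Limits CategoryTheory.Pretriangulated HomologicalComplex CochainComplex.HomComplex

namespace Groth.Agent.H7.PC

variable {C : Type u} [Category.{v} C] [Abelian C]

open CochainComplex (mappingCone)

/-- `u` is a `k`-quasi-isomorphism -/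
def NQ {E F : CochainComplex C ℤ} (u : E ⟶ F) (k : ℤ) : Prop :=
  ∀ i, k ≤ i → (mappingCone u).ExactAt i

lemma NQ.mono {E F : CochainComplex C ℤ} {u : E ⟶ F} {k k' : ℤ} (h : NQ u k) (hk : k ≤ k') : NQ u k' :=
  fun i hi => h i (hk.trans hi)

section

variable [HasDerivedCategory.{w} C]

lemma epiQ_iff {K L : CochainComplex C ℤ} (f : K ⟶ L) (i : ℤ) :
    Epi ((DerivedCategory.homologyFunctor C i).map (DerivedCategory.Q.map f)) ↔ Epi (homologyMap f i) :=
  (MorphismProperty.epimorphisms C).arrow_mk_iso_iff
    (Arrow.isoMk ((DerivedCategory.homologyFunctorFactors C i).app K) ((DerivedCategory.homologyFunctorFactors C i).app L)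
      ((DerivedCategory.homologyFunctorFactors C i).hom.naturality f).symm)

lemma monoQ_iff {K L : CochainComplex C ℤ} (f : K ⟶ L) (i : ℤ) :
    Mono ((DerivedCategory.homologyFunctor C i).map (DerivedCategory.Q.map f)) ↔ Mono (homologyMap f i) :=
  (MorphismProperty.monomorphisms C).arrow_mk_iso_iff
    (Arrow.isoMk ((DerivedCategory.homologyFunctorFactors C i).app K) ((DerivedCategory.homologyFunctorFactors C i).app L)
      ((DerivedCategory.homologyFunctorFactors C i).hom.naturality f).symm)

lemma isZero_homologyQ_iff (K : CochainComplex C ℤ) (i : ℤ) :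
    IsZero ((DerivedCategory.homologyFunctor C i).obj (DerivedCategory.Q.obj K)) ↔ K.ExactAt i := by
  rw [exactAt_iff_isZero_homology]
  exact ((DerivedCategory.homologyFunctorFactors C i).app K).isZero_iff

lemma exactAt_cone_iff {E F : CochainComplex C ℤ} (u : E ⟶ F) (i : ℤ) :
    (mappingCone u).ExactAt i ↔ Epi (homologyMap u i) ∧ Mono (homologyMap u (i + 1)) := by
  have hT := DerivedCategory.mappingCone_triangle_distinguished u
  set T := DerivedCategory.Q.mapTriangle.obj (CochainComplex.mappingCone.triangle u) with hTdef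
  rw [← isZero_homologyQ_iff, ← epiQ_iff, ← monoQ_iff]
  change IsZero ((DerivedCategory.homologyFunctor C i).obj T.obj₃) ↔
    Epi ((DerivedCategory.homologyFunctor C i).map T.mor₁) ∧
      Mono ((DerivedCategory.homologyFunctor C (i + 1)).map T.mor₁)
  rw [DerivedCategory.HomologySequence.epi_homologyMap_mor₁_iff T hT,
    DerivedCategory.HomologySequence.mono_homologyMap_mor₁_iff T hT i (i + 1)]
  constructor
  · exact fun h => ⟨h.eq_of_tgt _ _, h.eq_of_src _ _⟩
  · rintro ⟨h1, h2⟩
    exact (DerivedCategory.HomologySequence.exact₃ T hT i (i + 1)).isZero_of_both_zeros h1 h2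

end

lemma nq_iff {E F : CochainComplex C ℤ} (u : E ⟶ F) (k : ℤ) :
    NQ u k ↔ (∀ i, k < i → IsIso (homologyMap u i)) ∧ Epi (homologyMap u k) := by
  letI := HasDerivedCategory.standard C
  constructor
  · intro h
    refine ⟨fun i hi => ?_, ((exactAt_cone_iff u k).1 (h k le_rfl)).1⟩
    have h1 := ((exactAt_cone_iff u i).1 (h i hi.le)).1
    have h2 := ((exactAt_cone_iff u (i - 1)).1 (h (i - 1) (by omega))).2
    rw [sub_add_cancel] at h2
    exact isIso_of_mono_of_epi _
  · rintro ⟨h1, h2⟩ i hi
    refine (exactAt_cone_iff u i).2 ⟨?_, ?_⟩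
    · rcases hi.lt_or_eq with h | rfl
      · haveI := h1 i h; infer_instance
      · exact h2
    · haveI := h1 (i + 1) (by omega); infer_instance

lemma nq_quasiIso_iff {E F : CochainComplex C ℤ} (u : E ⟶ F) : QuasiIso u ↔ ∀ k, NQ u k := by
  constructor
  · intro h k
    rw [nq_iff]
    exact ⟨fun i _ => inferInstance, inferInstance⟩
  · intro h
    rw [quasiIso_iff]
    intro i
    rw [quasiIsoAt_iff_isIso_homologyMap]
    exact ((nq_iff u (i - 1)).1 (h _)).1 i (by omega)

section Step

variable {E F : CochainComplex C ℤ} (u : E ⟶ F) {G : C} (n : ℤ) (z : G ⟶ (mappingCone u).X n)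
  (hz : z ≫ (mappingCone u).d n (n + 1) = 0)

/-- attach `G` in degree `n` along the cycle `z` -/
noncomputable def stepMap : (CochainComplex.singleFunctor C (n + 1)).obj G ⟶ E :=
  mkHomFromSingle (z ≫ (CochainComplex.mappingCone.fst u).1.v n (n + 1) rfl) (fun k hk => by
    obtain rfl : n + 1 + 1 = k := hk
    have := hz
    rw [CochainComplex.mappingCone.ext_to_iff u (n + 1) (n + 1 + 1) rfl] at this
    have h := this.1
    simp only [Category.assoc, CochainComplex.mappingCone.d_fst_v u n (n + 1) (n + 1 + 1) rfl rfl,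
      Preadditive.comp_neg, zero_comp, neg_eq_zero] at h
    rw [Category.assoc]; exact h)

include hz in
lemma cycle_snd : z ≫ (CochainComplex.mappingCone.fst u).1.v n (n + 1) rfl ≫ u.f (n + 1)
    + z ≫ (CochainComplex.mappingCone.snd u).v n n (add_zero n) ≫ F.d n (n + 1) = 0 := by
  have := hz
  rw [CochainComplex.mappingCone.ext_to_iff u (n + 1) (n + 1 + 1) rfl] at this
  have h := this.2
  simpa only [Category.assoc, CochainComplex.mappingCone.d_snd_v u n (n + 1) rfl, Preadditive.comp_add,
    zero_comp] using h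

noncomputable def stepCochain : Cochain ((CochainComplex.singleFunctor C (n + 1)).obj G) F (-1) :=
  Cochain.fromSingleMk (-(z ≫ (CochainComplex.mappingCone.snd u).v n n (add_zero n))) (show n + 1 + -1 = n by omega)

lemma step_eq : δ (-1) 0 (stepCochain u n z) = Cochain.ofHom (stepMap u n z hz ≫ u) := by
  rw [stepCochain, Cochain.δ_fromSingleMk _ _ 0 (n + 1) (add_zero _)]
  apply (Cochain.fromSingleEquiv (C := C) (add_zero (n + 1))).injective
  rw [Cochain.fromSingleEquiv_fromSingleMk]
  simp only [Cochain.fromSingleEquiv, stepMap, AddEquiv.coe_mk, Equiv.coe_fn_mk, Cochain.ofHom_v,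
    HomologicalComplex.comp_f, mkHomFromSingle_f, Category.assoc, Iso.inv_hom_id_assoc, Preadditive.neg_comp]
  exact (eq_neg_of_add_eq_zero_left (cycle_snd u n z hz)).symm

/-- the modified complex -/
noncomputable abbrev stepCx : CochainComplex C ℤ := mappingCone (stepMap u n z hz)

noncomputable abbrev stepInr : E ⟶ stepCx u n z hz := CochainComplex.mappingCone.inr _

noncomputable def stepDesc : stepCx u n z hz ⟶ F :=
  CochainComplex.mappingCone.desc _ (stepCochain u n z) u (step_eq u n z hz)

lemma inr_stepDesc : stepInr u n z hz ≫ stepDesc u n z hz = u := CochainComplex.mappingCone.inr_desc _ _ _ _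

lemma mono_inr {K L : CochainComplex C ℤ} (φ : K ⟶ L) (i : ℤ) : Mono ((CochainComplex.mappingCone.inr φ).f i) :=
  mono_of_mono_fac (CochainComplex.mappingCone.inr_f_snd_v φ i)

lemma isIso_inr {K L : CochainComplex C ℤ} (φ : K ⟶ L) (i : ℤ) (h : IsZero (K.X (i + 1))) :
    IsIso ((CochainComplex.mappingCone.inr φ).f i) :=
  ⟨(CochainComplex.mappingCone.snd φ).v i i (add_zero i), CochainComplex.mappingCone.inr_f_snd_v φ i, by
    apply CochainComplex.mappingCone.ext_from φ (i + 1) i rfl
    · exact h.eq_of_src _ _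
    · simp⟩

lemma isIso_stepInr (i : ℤ) (hi : i ≠ n) : IsIso ((stepInr u n z hz).f i) :=
  isIso_inr _ i (isZero_single_obj_X _ _ _ _ (by omega))

/-- the cokernel of the inclusion in degree `n` is `G` -/
noncomputable def cokerIso : cokernel ((stepInr u n z hz).f n) ≅ G := by
  let φ := stepMap u n z hz
  let S : ShortComplex C := ShortComplex.mk ((stepInr u n z hz).f n)
    ((CochainComplex.mappingCone.fst φ).1.v n (n + 1) rfl ≫ (singleObjXSelf (ComplexShape.up ℤ) (n + 1) G).hom)
    (by
      show (CochainComplex.mappingCone.inr φ).f n ≫ _ ≫ _ = 0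
      rw [← Category.assoc, CochainComplex.mappingCone.inr_f_fst_v, zero_comp])
  let s : S.Splitting :=
    { r := (CochainComplex.mappingCone.snd φ).v n n (add_zero n)
      s := (singleObjXSelf (ComplexShape.up ℤ) (n + 1) G).inv ≫ (CochainComplex.mappingCone.inl φ).v (n + 1) n (by omega)
      f_r := CochainComplex.mappingCone.inr_f_snd_v φ n
      s_g := by simp [S]
      id := by
        show (CochainComplex.mappingCone.snd φ).v n n _ ≫ (CochainComplex.mappingCone.inr φ).f n
          + ((CochainComplex.mappingCone.fst φ).1.v n (n + 1) rfl ≫ (singleObjXSelf (ComplexShape.up ℤ) (n + 1) G).hom)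
            ≫ (singleObjXSelf (ComplexShape.up ℤ) (n + 1) G).inv ≫ (CochainComplex.mappingCone.inl φ).v (n + 1) n (by omega) = 𝟙 _
        rw [Category.assoc, Iso.hom_inv_id_assoc]
        exact (add_comm _ _).trans (CochainComplex.mappingCone.id_X φ n (n + 1) rfl) }
  exact (cokernelIsCokernel S.f).coconePointUniqueUpToIso s.shortExact.gIsCokernel

/-- the comparison of cones -/
noncomputable abbrev stepCone : mappingCone u ⟶ mappingCone (stepDesc u n z hz) :=
  CochainComplex.mappingCone.map u (stepDesc u n z hz) (stepInr u n z hz) (𝟙 F)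
    (by rw [Category.comp_id, inr_stepDesc])

lemma stepCone_fst (j : ℤ) : (stepCone u n z hz).f j ≫ (CochainComplex.mappingCone.fst (stepDesc u n z hz)).1.v j (j + 1) rfl
    = (CochainComplex.mappingCone.fst u).1.v j (j + 1) rfl ≫ (stepInr u n z hz).f (j + 1) := by
  apply CochainComplex.mappingCone.ext_from u (j + 1) j rfl <;> simp [CochainComplex.mappingCone.map]

lemma stepCone_snd (j : ℤ) : (stepCone u n z hz).f j ≫ (CochainComplex.mappingCone.snd (stepDesc u n z hz)).v j j (add_zero j)
    = (CochainComplex.mappingCone.snd u).v j j (add_zero j) := by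
  apply CochainComplex.mappingCone.ext_from u (j + 1) j rfl <;> simp [CochainComplex.mappingCone.map]

lemma isIso_stepCone (j : ℤ) (hj : n ≤ j) : IsIso ((stepCone u n z hz).f j) := by
  haveI := isIso_stepInr u n z hz (j + 1) (by omega)
  refine ⟨(CochainComplex.mappingCone.fst _).1.v j (j + 1) rfl ≫ inv ((stepInr u n z hz).f (j + 1)) ≫
      (CochainComplex.mappingCone.inl u).v (j + 1) j (by omega)
    + (CochainComplex.mappingCone.snd _).v j j (add_zero j) ≫ (CochainComplex.mappingCone.inr u).f j, ?_, ?_⟩
  · rw [Preadditive.comp_add, reassoc_of% (stepCone_fst u n z hz j), reassoc_of% (stepCone_snd u n z hz j),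
      IsIso.hom_inv_id_assoc]
    exact CochainComplex.mappingCone.id_X u j (j + 1) rfl
  · apply CochainComplex.mappingCone.ext_to (stepDesc u n z hz) j (j + 1) rfl
    · rw [Category.assoc, stepCone_fst, Preadditive.add_comp, Category.id_comp]
      simp
    · rw [Category.assoc, stepCone_snd, Preadditive.add_comp, Category.id_comp]
      simp

/-- the attached cycle becomes a boundary -/
lemma step_bound : ∃ q, q ≫ (mappingCone (stepDesc u n z hz)).d (n - 1) n = z ≫ (stepCone u n z hz).f n := by
  refine ⟨-((singleObjXSelf (ComplexShape.up ℤ) (n + 1) G).inv ≫ (CochainComplex.mappingCone.inl (stepMap u n z hz)).v (n + 1) n (by omega) ≫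
    (CochainComplex.mappingCone.inl (stepDesc u n z hz)).v n (n - 1) (by omega)), ?_⟩
  apply CochainComplex.mappingCone.ext_to (stepDesc u n z hz) n (n + 1) rfl
  · rw [Category.assoc z, stepCone_fst]
    simp only [Preadditive.neg_comp, Category.assoc, CochainComplex.mappingCone.d_fst_v (stepDesc u n z hz) (n - 1) n (n + 1) (by omega) rfl,
      Preadditive.comp_neg, neg_neg, CochainComplex.mappingCone.inl_v_fst_v_assoc]
    rw [CochainComplex.mappingCone.inl_v_d _ (n + 1) n (n + 1 + 1) (by omega) (by omega), Preadditive.comp_sub]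
    simp only [stepInr, stepMap]
    rw [(isZero_single_obj_X (ComplexShape.up ℤ) (n + 1) G (n + 1 + 1) (by omega)).eq_of_tgt
      (((CochainComplex.singleFunctor C (n + 1)).obj G).d (n + 1) (n + 1 + 1)) 0, zero_comp, comp_zero, sub_zero, mkHomFromSingle_f, Category.assoc, Iso.inv_hom_id_assoc]
    exact Category.assoc _ _ _
  · rw [Category.assoc z, stepCone_snd]
    simp only [Preadditive.neg_comp, Category.assoc, CochainComplex.mappingCone.d_snd_v (stepDesc u n z hz) (n - 1) n (by omega),
      Preadditive.comp_add, CochainComplex.mappingCone.inl_v_fst_v_assoc]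
    simp [stepDesc, stepCochain]

lemma nq_step (h : NQ u (n + 1))
    (hepi : Epi ((mappingCone u).liftCycles z (n + 1) (by simp) hz ≫ (mappingCone u).homologyπ n)) :
    NQ (stepDesc u n z hz) n := by
  intro i hi
  rw [exactAt_iff_exact_up_to_refinements _ (i - 1) i (i + 1) (by simp) (by simp)]
  intro A x hx
  haveI := isIso_stepCone u n z hz i hi
  haveI := isIso_stepCone u n z hz (i + 1) (by omega)
  set M := stepCone u n z hz
  have hy : (x ≫ inv (M.f i)) ≫ (mappingCone u).d i (i + 1) = 0 := by
    rw [← cancel_mono (M.f (i + 1)), Category.assoc, Category.assoc, ← M.comm, IsIso.inv_hom_id_assoc, hx, zero_comp]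
  rcases hi.lt_or_eq with hlt | rfl
  · obtain ⟨A', π, hπ, w, hw⟩ := ((exactAt_iff_exact_up_to_refinements _ (i - 1) i (i + 1) (by simp) (by simp)).1
      (h i (by omega))) _ hy
    refine ⟨A', π, hπ, w ≫ M.f (i - 1), ?_⟩
    rw [Category.assoc, M.comm, ← reassoc_of% hw, IsIso.inv_hom_id, Category.comp_id]
  · obtain ⟨A₁, π₁, hπ₁, g, hg⟩ := surjective_up_to_refinements_of_epi
      ((mappingCone u).liftCycles z (n + 1) _ hz ≫ (mappingCone u).homologyπ n)
      ((mappingCone u).liftCycles (x ≫ inv (M.f n)) (n + 1) (by simp) hy ≫ (mappingCone u).homologyπ n)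
    rw [← Category.assoc π₁, ← Category.assoc g, comp_liftCycles, comp_liftCycles,
      liftCycles_comp_homologyπ_eq_iff_up_to_refinements _ (n - 1) n (n + 1) (by simp) (by simp)] at hg
    obtain ⟨A₂, π₂, hπ₂, w, hw⟩ := hg
    obtain ⟨q, hq⟩ := step_bound u n z hz
    haveI := hπ₁; haveI := hπ₂
    refine ⟨A₂, π₂ ≫ π₁, epi_comp _ _, π₂ ≫ g ≫ q + w ≫ M.f (n - 1), ?_⟩
    rw [Preadditive.add_comp, Category.assoc π₂ (g ≫ q), Category.assoc g, hq, Category.assoc w, M.comm]
    have := congrArg (· ≫ M.f n) hw
    simp only [Category.assoc, Preadditive.add_comp, IsIso.inv_hom_id, Category.comp_id] at this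
    rw [Category.assoc, this]

end Step

end Groth.Agent.H7.PC
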