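import Groth.Agent.H7.PC.Glue

/-! Finite type and precoherent objects relative to `C₀` (SGA 6 I 2.1). -/

set_option backward.isDefEq.respectTransparency false
set_option linter.unusedSectionVars false

universe w v u

open CategoryTheory CategoryTheory.Limits HomologicalComplex PCoh

namespace Groth.Agent.H7.PC

variable {C : Type u} [Category.{v} C] [Abelian C] (P : ObjectProperty C) [P.IsClosedUnderIsomorphisms]

/-- precoherent: kernels of maps from `C₀` are of finite type -/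
def PreCoh (X : C) : Prop := ∀ (E : C) (u : E ⟶ X), P E → IsOfFiniteType P (kernel u)

variable {P}

lemma ft_of_P {X : C} (h : P X) : IsOfFiniteType P X := ⟨X, 𝟙 X, h, inferInstance⟩

lemma ft_of_epi {X Y : C} (f : X ⟶ Y) [Epi f] (h : IsOfFiniteType P X) : IsOfFiniteType P Y := by
  obtain ⟨E, π, hE, hπ⟩ := h
  haveI := hπ
  exact ⟨E, π ≫ f, hE, inferInstance⟩

lemma preCoh_of_mono {X Y : C} (i : X ⟶ Y) [Mono i] (h : PreCoh P Y) : PreCoh P X :=
  fun E u hE => ft_of_epi (kernelCompMono u i).hom (h E (u ≫ i) hE)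

lemma preCoh_of_iso {X Y : C} (e : X ≅ Y) (h : PreCoh P X) : PreCoh P Y := preCoh_of_mono e.inv h

variable (hsum : ∀ X Y : C, P X → P Y → P (X ⨯ Y)) (hql : IsQuasiLiftable P)
include hql

/-- lift a finite type cover along an epimorphism -/
lemma exists_lift {A B X : C} (f : A ⟶ B) [Epi f] (h : IsOfFiniteType P X) (g : X ⟶ B) :
    ∃ (G : C) (a : G ⟶ A) (c : G ⟶ X), P G ∧ Epi c ∧ a ≫ f = c ≫ g := by
  obtain ⟨G₀, π, hG₀, hπ⟩ := h
  haveI := hπ
  obtain ⟨G, t, hG, ht⟩ := hql _ G₀ (pullback.snd f (π ≫ g)) inferInstance hG₀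
  haveI := ht
  exact ⟨G, t ≫ pullback.fst f (π ≫ g), (t ≫ pullback.snd f (π ≫ g)) ≫ π, hG, epi_comp _ _,
    by simp only [Category.assoc, pullback.condition]⟩

include hsum

lemma ft_of_exact (S : ShortComplex C) (hS : S.Exact) (hg : Epi S.g)
    (h₁ : IsOfFiniteType P S.X₁) (h₃ : IsOfFiniteType P S.X₃) : IsOfFiniteType P S.X₂ := by
  obtain ⟨E₁, π₁, hE₁, hπ₁⟩ := h₁
  obtain ⟨G, a, c, hG, hc, hac⟩ := exists_lift hql S.g h₃ (𝟙 S.X₃)
  rw [Category.comp_id] at hac
  haveI := hπ₁; haveI := hc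
  refine ⟨E₁ ⊞ G, biprod.desc (π₁ ≫ S.f) a, P_biprod P hsum hE₁ hG, ?_⟩
  rw [Preadditive.epi_iff_cancel_zero]
  intro T t ht
  have h1 : S.f ≫ t = 0 := by
    rw [← cancel_epi π₁]
    simpa using congrArg (biprod.inl ≫ ·) ht
  have h2 : a ≫ t = 0 := by simpa using congrArg (biprod.inr ≫ ·) ht
  haveI := hg
  obtain ⟨s, rfl⟩ := CokernelCofork.IsColimit.desc' hS.gIsCokernel t h1
  simp only [Cofork.π_ofπ] at h2 ⊢
  rw [← Category.assoc, hac, ← comp_zero (f := c), cancel_epi] at h2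
  rw [h2, comp_zero]

/-- SGA 6 I: kernel of a map from finite type to precoherent is of finite type -/
lemma ft_kernel (S : ShortComplex C) (hS : S.Exact) (hf : Mono S.f)
    (hG : IsOfFiniteType P S.X₂) (hH : PreCoh P S.X₃) : IsOfFiniteType P S.X₁ := by
  obtain ⟨E, π, hE, hπ⟩ := hG
  haveI := hπ
  haveI := hf
  let l := hS.lift (kernel.ι (π ≫ S.g) ≫ π) (by rw [Category.assoc, kernel.condition])
  haveI : Epi l := by
    rw [epi_iff_surjective_up_to_refinements]
    intro A x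
    obtain ⟨A', p, hp, y, hy⟩ := surjective_up_to_refinements_of_epi π (x ≫ S.f)
    have hyk : y ≫ π ≫ S.g = 0 := by rw [← reassoc_of% hy]; simp
    refine ⟨A', p, hp, kernel.lift _ y hyk, ?_⟩
    rw [← cancel_mono S.f, Category.assoc, Category.assoc, hy, hS.lift_f, kernel.lift_ι_assoc]
  exact ft_of_epi l (hH E _ hE)

lemma preCoh_cokernel (S : ShortComplex C) (hS : S.Exact) (hg : Epi S.g)
    (hF : IsOfFiniteType P S.X₁) (hG : PreCoh P S.X₂) : PreCoh P S.X₃ := by
  intro E u hE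
  haveI := hg
  obtain ⟨E', a, c, hE', hc, hac⟩ := exists_lift hql S.g (ft_of_P hE) u
  obtain ⟨E₁, π₁, hE₁, hπ₁⟩ := hF
  haveI := hc; haveI := hπ₁
  let φ := biprod.desc a (π₁ ≫ S.f)
  have hK := hG _ φ (P_biprod P hsum hE' hE₁)
  let l : kernel φ ⟶ kernel u := kernel.lift u (kernel.ι φ ≫ biprod.fst ≫ c) (by
    have := kernel.condition φ
    calc (kernel.ι φ ≫ biprod.fst ≫ c) ≫ u = kernel.ι φ ≫ φ ≫ S.g := by
          simp only [φ, Category.assoc]
          congr 1
          ext <;> simp [hac]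
      _ = 0 := by rw [reassoc_of% this, zero_comp])
  haveI : Epi l := by
    rw [epi_iff_surjective_up_to_refinements]
    intro A x
    obtain ⟨A₁, p₁, hp₁, e', he'⟩ := surjective_up_to_refinements_of_epi c (x ≫ kernel.ι u)
    have h0 : (e' ≫ a) ≫ S.g = 0 := by
      rw [Category.assoc, hac, ← reassoc_of% he', kernel.condition, comp_zero, comp_zero]
    obtain ⟨A₂, p₂, hp₂, w, hw⟩ := hS.exact_up_to_refinements (e' ≫ a) h0
    obtain ⟨A₃, p₃, hp₃, y, hy⟩ := surjective_up_to_refinements_of_epi π₁ w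
    haveI := hp₁; haveI := hp₂; haveI := hp₃
    refine ⟨A₃, p₃ ≫ p₂ ≫ p₁, by infer_instance,
      kernel.lift φ (biprod.lift (p₃ ≫ p₂ ≫ e') (-y)) ?_, ?_⟩
    · simp only [φ, biprod.lift_desc, Category.assoc, Preadditive.neg_comp]
      rw [hw, ← reassoc_of% hy, add_neg_cancel]
    · rw [← cancel_mono (kernel.ι u)]
      simp only [l, Category.assoc, kernel.lift_ι, kernel.lift_ι_assoc, biprod.lift_fst_assoc, he']
  exact ft_of_epi l hK

lemma preCoh_of_shortExact (S : ShortComplex C) (hS : S.ShortExact)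
    (h₁ : PreCoh P S.X₁) (h₃ : PreCoh P S.X₃) : PreCoh P S.X₂ := by
  intro E u hE
  haveI := hS.mono_f
  have hK := h₃ E (u ≫ S.g) hE
  let w : kernel (u ≫ S.g) ⟶ S.X₁ := hS.exact.lift (kernel.ι (u ≫ S.g) ≫ u) (by rw [Category.assoc, kernel.condition])
  have hw : w ≫ S.f = kernel.ι (u ≫ S.g) ≫ u := hS.exact.lift_f _ _
  have hkw : IsOfFiniteType P (kernel w) :=
    ft_kernel hsum hql (ShortComplex.mk (kernel.ι w) w (kernel.condition w))
      (ShortComplex.exact_of_f_is_kernel _ (kernelIsKernel w)) inferInstance hK h₁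
  let e : kernel w ≅ kernel u :=
    { hom := kernel.lift u (kernel.ι w ≫ kernel.ι (u ≫ S.g)) (by
        rw [Category.assoc, ← hw, kernel.condition_assoc, zero_comp])
      inv := kernel.lift w (kernel.lift (u ≫ S.g) (kernel.ι u) (by rw [kernel.condition_assoc, zero_comp])) (by
        rw [← cancel_mono S.f, Category.assoc, hw, kernel.lift_ι_assoc, kernel.condition, zero_comp])
      hom_inv_id := by ext; simp
      inv_hom_id := by ext; simp }
  haveI : IsIso e.hom := Iso.isIso_hom e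
  haveI : Epi e.hom := IsIso.epi_of_iso _
  exact ft_of_epi e.hom hkw

omit hsum hql in
lemma qs_of_coh [P.ContainsZero] (hcoh : ∀ (X E : C) (u : E ⟶ X), P X → P E → IsOfFiniteType P (kernel u)) :
    IsQuasiStableUnderKernels P := by
  intro K hK _ hP
  have h0 := hK 0
  rw [exactAt_iff' K 0 0 1 (by simp) (by simp)] at h0
  have h1 := hK 1
  rw [exactAt_iff' K 0 1 2 (by simp) (by simp)] at h1
  haveI : Mono (K.d 0 1) := h0.mono_g (K.shape 0 0 (by simp))
  haveI : Mono (K.sc' 0 1 2).f := inferInstanceAs (Mono (K.d 0 1))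
  exact ft_of_epi (X := kernel (K.d 1 2))
    ((kernelIsKernel (K.d 1 2)).conePointUniqueUpToIso h1.fIsKernel).hom (hcoh _ _ _ (hP 2 (by omega)) (hP 1 le_rfl))

omit hsum hql in
/-- cycles in the lowest interesting degree of a strictly `n`-pseudo-coherent complex (SGA 6 I 2.2 a) -/
lemma ft_cycles [P.ContainsZero] (hqs : IsQuasiStableUnderKernels P) (n : ℤ) (E : CochainComplex C ℤ) (b : ℤ)
    (hb : ∀ i, b < i → IsZero (E.X i)) (hP : ∀ i, n ≤ i → P (E.X i)) (hac : ∀ i, n < i → E.ExactAt i) :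
    IsOfFiniteType P (E.cycles n) := by
  let K : CochainComplex C ℕ := CochainComplex.of
    (fun | 0 => E.cycles n | (j + 1) => E.X (n + j))
    (fun | 0 => E.iCycles n ≫ (eqToHom (by simp)) | (j + 1) => E.d (n + j) (n + (j + 1 : ℕ)))
    (fun j => by cases j with
      | zero => simp
      | succ j => simp)
  have hd0 : K.d 0 1 = E.iCycles n ≫ eqToHom (show E.X n = E.X (n + (0 : ℕ)) by simp) := by
    simp [K, CochainComplex.of.d]
  have hdS : ∀ j : ℕ, K.d (j + 1) (j + 2) = E.d (n + j) (n + (j + 1 : ℕ)) := fun j => by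
    simp [K, CochainComplex.of.d]
  refine hqs K (fun j => ?_) ⟨(b - n).toNat + 1, fun j hj => ?_⟩ (fun j hj => ?_)
  · match j with
    | 0 =>
      rw [exactAt_iff' K 0 0 1 (by simp) (by simp)]
      haveI : Mono (K.d 0 1) := by
        rw [hd0]; exact mono_comp _ _
      exact ShortComplex.exact_iff_mono _ (K.shape 0 0 (by simp)) |>.2 this
    | 1 =>
      rw [exactAt_iff' K 0 1 2 (by simp) (by simp), ShortComplex.exact_iff_exact_up_to_refinements]
      intro A x hx
      have hx' : (x ≫ eqToHom (show K.X 1 = E.X n by show E.X (n + (0 : ℕ)) = E.X n; simp)) ≫ E.d n (n + 1) = 0 := by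
        change x ≫ K.d 1 2 = 0 at hx
        rw [show K.d 1 2 = E.d (n + (0 : ℕ)) (n + (1 : ℕ)) from hdS 0] at hx
        simpa [← cancel_mono (eqToHom (show E.X (n + (1 : ℕ)) = E.X (n + 1) by simp))] using hx
      refine ⟨A, 𝟙 A, inferInstance, E.liftCycles _ (n + 1) (by simp) hx', ?_⟩
      show 𝟙 A ≫ x = _ ≫ K.d 0 1
      rw [hd0, Category.id_comp]
      simp
    | (j + 2) =>
      rw [exactAt_iff' K (j + 1) (j + 2) (j + 3) (by simp) (by simp)]
      have h := hac (n + (j + 1 : ℕ)) (by omega)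
      rw [exactAt_iff' E (n + j) (n + (j + 1 : ℕ)) (n + (j + 1 + 1 : ℕ)) (by simp; omega) (by simp; omega)] at h
      refine ShortComplex.exact_of_iso (ShortComplex.isoMk (S₁ := E.sc' (n + j) (n + (j + 1 : ℕ)) (n + (j + 1 + 1 : ℕ))) (S₂ := K.sc' (j + 1) (j + 2) (j + 3)) (Iso.refl _) (Iso.refl _) (Iso.refl _) ?_ ?_) h
      · show 𝟙 _ ≫ K.d (j + 1) (j + 2) = _ ≫ 𝟙 _
        rw [hdS j, Category.id_comp, Category.comp_id]; rfl
      · show 𝟙 _ ≫ K.d (j + 2) (j + 3) = _ ≫ 𝟙 _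
        rw [hdS (j + 1), Category.id_comp, Category.comp_id]; rfl
  · obtain ⟨j', rfl⟩ : ∃ j', j = j' + 1 := ⟨j - 1, by omega⟩
    exact hb (n + (j' : ℤ)) (by omega)
  · obtain ⟨j', rfl⟩ : ∃ j', j = j' + 1 := ⟨j - 1, by omega⟩
    exact hP (n + (j' : ℤ)) (by omega)

omit hsum hql in
lemma ft_homology [P.ContainsZero] (hqs : IsQuasiStableUnderKernels P) (n : ℤ) (E : CochainComplex C ℤ)
    (hE : IsStrictPC P n E) (hac : ∀ i, n < i → E.ExactAt i) : IsOfFiniteType P (E.homology n) := by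
  obtain ⟨⟨b, hb⟩, hP⟩ := hE
  exact ft_of_epi (E.homologyπ n) (ft_cycles hqs n E b hb hP hac)

end Groth.Agent.H7.PC
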