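import Groth.Agent.H7.PC.Glue
import Groth.Agent.H7.PC.Finite

/-! `n`-pseudo-coherent objects of the derived category (SGA 6 I 1, 2). -/

set_option backward.isDefEq.respectTransparency false
set_option linter.unusedSectionVars false

universe w v u

open CategoryTheory CategoryTheory.Limits ZeroObject CategoryTheory.Pretriangulated HomologicalComplex
open DerivedCategory (Q homologyFunctorFactors)

namespace Groth.Agent.H7.PC

variable {C : Type u} [Category.{v} C] [Abelian C]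

open CochainComplex (mappingCone)
open PCoh

section Strict

variable {P : ObjectProperty C} [P.IsClosedUnderIsomorphisms] [P.ContainsZero]

omit [P.IsClosedUnderIsomorphisms] [P.ContainsZero] in
lemma strict_mono {n m : ℤ} (h : n ≤ m) {E : CochainComplex C ℤ} (hE : IsStrictPC P n E) : IsStrictPC P m E :=
  ⟨hE.1, fun i hi => hE.2 i (h.trans hi)⟩

omit [P.IsClosedUnderIsomorphisms] [P.ContainsZero] in
lemma strict_of_all {E : CochainComplex C ℤ} (hE : IsStrictPCAll P E) (n : ℤ) : IsStrictPC P n E :=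
  ⟨hE.1, fun i _ => hE.2 i⟩

/-- modifications in a range bounded above keep strict pseudo-coherence -/
lemma strict_of_isMod {n k : ℤ} {S : Set ℤ} (hS : ∀ i ∈ S, i ≤ k) {E E' : CochainComplex C ℤ} {v : E ⟶ E'}
    (hv : IsMod P S v) (hE : IsStrictPC P n E) : IsStrictPC P n E' := by
  obtain ⟨⟨b, hb⟩, hP⟩ := hE
  refine ⟨⟨max b k, fun i hi => ?_⟩, fun i hi => hv.prop i (hP i hi)⟩
  haveI := hv.iso i (fun h => by have := hS i h; omega)
  exact (hb i (by omega)).of_iso (asIso (v.f i)).symm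

/-- an isomorphism in degrees `≥ k` keeps strict `n`-pseudo-coherence, `k ≤ n` -/
lemma strict_of_iso_ge {n k : ℤ} (hk : k ≤ n) {E E' : CochainComplex C ℤ} (v : E ⟶ E')
    (hv : ∀ i, k ≤ i → IsIso (v.f i)) (hE : IsStrictPC P n E) : IsStrictPC P n E' := by
  obtain ⟨⟨b, hb⟩, hP⟩ := hE
  refine ⟨⟨max b k, fun i hi => ?_⟩, fun i hi => ?_⟩
  · haveI := hv i (by omega)
    exact (hb i (by omega)).of_iso (asIso (v.f i)).symm
  · haveI := hv i (hk.trans hi)
    exact P.prop_of_iso (asIso (v.f i)) (hP i hi)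

lemma strict_zero (n : ℤ) : IsStrictPC P n (0 : CochainComplex C ℤ) :=
  ⟨⟨0, fun i _ => (HomologicalComplex.eval C (ComplexShape.up ℤ) i).map_isZero (isZero_zero _)⟩,
    fun i _ => P.prop_of_isZero ((HomologicalComplex.eval C (ComplexShape.up ℤ) i).map_isZero (isZero_zero _))⟩

lemma strictAll_zero : IsStrictPCAll P (0 : CochainComplex C ℤ) :=
  ⟨⟨0, fun i _ => (HomologicalComplex.eval C (ComplexShape.up ℤ) i).map_isZero (isZero_zero _)⟩,
    fun i => P.prop_of_isZero ((HomologicalComplex.eval C (ComplexShape.up ℤ) i).map_isZero (isZero_zero _))⟩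

lemma strict_cone (hsum : ∀ X Y : C, P X → P Y → P (X ⨯ Y)) {n : ℤ} {K L : CochainComplex C ℤ} (φ : K ⟶ L)
    (hK : IsStrictPC P (n + 1) K) (hL : IsStrictPC P n L) : IsStrictPC P n (mappingCone φ) := by
  obtain ⟨⟨bK, hbK⟩, hPK⟩ := hK
  obtain ⟨⟨bL, hbL⟩, hPL⟩ := hL
  refine ⟨⟨max bK bL, fun i hi => (IsZero.iff_id_eq_zero _).2 ?_⟩,
    fun i hi => P_cone P hsum φ i (hPK _ (by omega)) (hPL i hi)⟩
  exact CochainComplex.mappingCone.ext_from _ (i + 1) i rfl
    ((hbK (i + 1) (by omega)).eq_of_src _ _) ((hbL i (by omega)).eq_of_src _ _)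

end Strict

/-- starting the construction at the zero complex -/
lemma nq_zero {F : CochainComplex C ℤ} (k : ℤ) (h : ∀ i, k ≤ i → F.ExactAt i) :
    NQ (0 : (0 : CochainComplex C ℤ) ⟶ F) k := by
  rw [nq_iff]
  have h0 : ∀ i, IsZero ((0 : CochainComplex C ℤ).homology i) := fun i =>
    (HomologicalComplex.homologyFunctor C (ComplexShape.up ℤ) i).map_isZero (isZero_zero _)
  have hF : ∀ i, k ≤ i → IsZero (F.homology i) := fun i hi => (h i hi).isZero_homology
  refine ⟨fun i hi => ?_, ⟨fun g h' _ => (hF k le_rfl).eq_of_src g h'⟩⟩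
  exact ⟨0, (h0 i).eq_of_src _ _, (hF i hi.le).eq_of_src _ _⟩

section D

variable [HasDerivedCategory.{w} C]

/-- the cone in `D(C)` of a morphism depends only on the morphism up to quasi-isomorphisms -/
lemma nonempty_coneIso {K L K' L' : CochainComplex C ℤ} (φ : K ⟶ L) (φ' : K' ⟶ L')
    (e₁ : Q.obj K ≅ Q.obj K') (e₂ : Q.obj L ≅ Q.obj L') (h : Q.map φ ≫ e₂.hom = e₁.hom ≫ Q.map φ') :
    Nonempty (Q.obj (mappingCone φ) ≅ Q.obj (mappingCone φ')) :=
  ⟨Triangle.π₃.mapIso (isoTriangleOfIso₁₂ _ _ (DerivedCategory.mappingCone_triangle_distinguished φ)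
    (DerivedCategory.mappingCone_triangle_distinguished φ') e₁ e₂ h)⟩

/-- homology of a complex computed in `D(C)` -/
noncomputable def homologyQIso (K : CochainComplex C ℤ) (i : ℤ) :
    (DerivedCategory.homologyFunctor C i).obj (Q.obj K) ≅ K.homology i :=
  (homologyFunctorFactors C i).app K

lemma exactAt_iff_Q {K : CochainComplex C ℤ} {X : DerivedCategory C} (e : Q.obj K ≅ X) (i : ℤ) :
    K.ExactAt i ↔ IsZero ((DerivedCategory.homologyFunctor C i).obj X) := by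
  rw [← isZero_homologyQ_iff]
  exact ((DerivedCategory.homologyFunctor C i).mapIso e).isZero_iff

variable (P : ObjectProperty C)

/-- `X` is `n`-pseudo-coherent -/
def PCn (n : ℤ) (X : DerivedCategory C) : Prop :=
  ∃ E : CochainComplex C ℤ, IsStrictPC P n E ∧ Nonempty (Q.obj E ≅ X)

variable {P}

lemma PCn.of_iso {n : ℤ} {X Y : DerivedCategory C} (h : PCn P n X) (e : X ≅ Y) : PCn P n Y := by
  obtain ⟨E, hE, ⟨f⟩⟩ := h
  exact ⟨E, hE, ⟨f ≪≫ e⟩⟩

lemma PCn.mono {n m : ℤ} (hnm : n ≤ m) {X : DerivedCategory C} (h : PCn P n X) : PCn P m X := by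
  obtain ⟨E, hE, hf⟩ := h
  exact ⟨E, strict_mono hnm hE, hf⟩

lemma PCn.exists_bound {n : ℤ} {X : DerivedCategory C} (h : PCn P n X) :
    ∃ b, ∀ i, b < i → IsZero ((DerivedCategory.homologyFunctor C i).obj X) := by
  obtain ⟨E, ⟨⟨b, hb⟩, -⟩, ⟨f⟩⟩ := h
  exact ⟨b, fun i hi => (exactAt_iff_Q f i).1 (ExactAt.of_isZero (hb i hi))⟩

variable [P.IsClosedUnderIsomorphisms] [P.ContainsZero]

lemma pcn_of_nq {n : ℤ} {E F : CochainComplex C ℤ} (u : E ⟶ F) (hE : IsStrictPC P n E) (hu : NQ u n) :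
    PCn P n (Q.obj F) := by
  obtain ⟨E', v, u', -, hq, -, hv⟩ := exists_factorisation u n hu
  haveI : IsIso (Q.map u') := (DerivedCategory.isIso_Q_map_iff_quasiIso (C := C) u').2 hq
  exact ⟨E', strict_of_iso_ge le_rfl v hv hE, ⟨asIso (Q.map u')⟩⟩

/-- complexes acyclic in degrees `≥ n` are `n`-pseudo-coherent -/
lemma pcn_of_isZero {n : ℤ} {X : DerivedCategory C}
    (h : ∀ i, n ≤ i → IsZero ((DerivedCategory.homologyFunctor C i).obj X)) : PCn P n X := by
  haveI : X.IsLE (n - 1) := (DerivedCategory.isLE_iff X (n - 1)).2 fun i hi => h i (by omega)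
  obtain ⟨K, hK, ⟨e⟩⟩ := X.exists_iso_Q_obj_of_isLE (n - 1)
  exact ⟨K, ⟨⟨n - 1, fun i hi => K.isZero_of_isStrictlyLE (n - 1) i hi⟩,
    fun i hi => P.prop_of_isZero (K.isZero_of_isStrictlyLE (n - 1) i (by omega))⟩, ⟨e.symm⟩⟩

variable (hsum : ∀ X Y : C, P X → P Y → P (X ⨯ Y)) (hqs : IsQuasiStableUnderKernels P) (hql : IsQuasiLiftable P)

include hqs in
/-- SGA 6 I 2.2 a: the top cohomology is of finite type -/
lemma ft_homologyQ {n j : ℤ} (hnj : n ≤ j) {X : DerivedCategory C} (h : PCn P n X)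
    (hac : ∀ i, j < i → IsZero ((DerivedCategory.homologyFunctor C i).obj X)) :
    IsOfFiniteType P ((DerivedCategory.homologyFunctor C j).obj X) := by
  obtain ⟨E, hE, ⟨f⟩⟩ := h
  exact ft_of_epi ((homologyQIso E j).inv ≫ (DerivedCategory.homologyFunctor C j).map f.hom)
    (ft_homology hqs j E (strict_mono hnj hE) fun i hi => (exactAt_iff_Q f i).2 (hac i hi))

include hqs in
lemma ft_cone {n j : ℤ} (hnj : n ≤ j) {E F : CochainComplex C ℤ} (u : E ⟶ F)
    (h : PCn P n (Q.obj (mappingCone u))) (hu : NQ u (j + 1)) :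
    IsOfFiniteType P ((mappingCone u).homology j) :=
  ft_of_epi (homologyQIso _ j).hom
    (ft_homologyQ hqs hnj h fun i hi => (isZero_homologyQ_iff _ _).2 (hu i (by omega)))

include hsum hqs hql

/-- SGA 6 I 1.5 core: lifting a strictly pseudo-coherent representative along a quasi-isomorphism -/
lemma exists_strict_qis {n : ℤ} {E F : CochainComplex C ℤ} (hF : IsStrictPC P n F) (u : E ⟶ F) [QuasiIso u] :
    ∃ (F' : CochainComplex C ℤ) (v : F' ⟶ E), IsStrictPC P n F' ∧ QuasiIso v := by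
  obtain ⟨b, hb⟩ := hF.1
  haveI : IsIso (Q.map u) := (DerivedCategory.isIso_Q_map_iff_quasiIso (C := C) u).2 inferInstance
  have hEx : ∀ i, max n (b + 1) ≤ i → E.ExactAt i := fun i hi =>
    (exactAt_iff_Q (asIso (Q.map u)) i).2 ((isZero_homologyQ_iff F i).2 (ExactAt.of_isZero (hb i (by omega))))
  obtain ⟨E', v, w, -, -, hE', hw⟩ := exists_iter P hsum hql (F := E) (fun E₀ => IsStrictPC P n E₀) n
    (fun E₀ w j hj hE₀ hw => by
      refine ft_cone hqs hj w ?_ hw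
      obtain ⟨e⟩ := nonempty_coneIso w (w ≫ u) (Iso.refl _) (asIso (Q.map u)) (by simp)
      exact PCn.of_iso ⟨_, strict_cone hsum (w ≫ u) (strict_mono (by omega) hE₀) hF, ⟨Iso.refl _⟩⟩ e.symm)
    (fun A A' w j _ hA hw => strict_of_isMod (k := j) (fun i hi => le_of_eq hi) hw hA)
    ((max n (b + 1) - n).toNat) 0 0 (strict_zero n)
    (nq_zero _ fun i hi => hEx i (by omega))
  obtain ⟨E'', v', w', -, hq, -, hv'⟩ := exists_factorisation w n hw
  exact ⟨E'', w', strict_of_iso_ge le_rfl v' hv' hE', hq⟩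

lemma PCn.exists_qis {n : ℤ} {F : CochainComplex C ℤ} (h : PCn P n (Q.obj F)) :
    ∃ (F' : CochainComplex C ℤ) (v : F' ⟶ F), IsStrictPC P n F' ∧ QuasiIso v := by
  obtain ⟨E, hE, ⟨e⟩⟩ := h
  obtain ⟨X', s, hs, g, hg⟩ := DerivedCategory.right_fac e.hom
  haveI : IsIso (Q.map g) := by
    have : Q.map g = Q.map s ≫ e.hom := by rw [hg, IsIso.hom_inv_id_assoc]
    rw [this]; infer_instance
  haveI : QuasiIso g := (DerivedCategory.isIso_Q_map_iff_quasiIso (C := C) g).1 inferInstance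
  haveI : QuasiIso s := (DerivedCategory.isIso_Q_map_iff_quasiIso (C := C) s).1 hs
  obtain ⟨F', v, hF', hv⟩ := exists_strict_qis hsum hqs hql hE s
  exact ⟨F', v ≫ g, hF', quasiIso_comp _ _⟩

/-- SGA 6 I 2.5: cones -/
lemma PCn.obj₃ {n : ℤ} {T : Triangle (DerivedCategory C)} (hT : T ∈ distinguishedTriangles)
    (h₁ : PCn P (n + 1) T.obj₁) (h₂ : PCn P n T.obj₂) : PCn P n T.obj₃ := by
  obtain ⟨E₁, hE₁, ⟨e₁⟩⟩ := h₁
  obtain ⟨E₂, hE₂, ⟨e₂⟩⟩ := h₂
  obtain ⟨X', s, hs, g, hg⟩ := DerivedCategory.right_fac (e₁.hom ≫ T.mor₁ ≫ e₂.inv)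
  haveI : QuasiIso s := (DerivedCategory.isIso_Q_map_iff_quasiIso (C := C) s).1 hs
  obtain ⟨X'', v, hX'', hv⟩ := exists_strict_qis hsum hqs hql hE₁ s
  haveI : IsIso (Q.map v) := (DerivedCategory.isIso_Q_map_iff_quasiIso (C := C) v).2 hv
  refine ⟨mappingCone (v ≫ g), strict_cone hsum _ hX'' hE₂, ⟨Triangle.π₃.mapIso (isoTriangleOfIso₁₂ _ T
    (DerivedCategory.mappingCone_triangle_distinguished (v ≫ g)) hT
    ((asIso (Q.map v) ≪≫ asIso (Q.map s) ≪≫ e₁) : Q.obj X'' ≅ T.obj₁) e₂ ?_)⟩⟩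
  show Q.map (v ≫ g) ≫ e₂.hom = (Q.map v ≫ Q.map s ≫ e₁.hom) ≫ T.mor₁
  have : Q.map g = Q.map s ≫ e₁.hom ≫ T.mor₁ ≫ e₂.inv := by rw [hg, IsIso.hom_inv_id_assoc]
  rw [Q.map_comp, this]
  simp

omit hsum hqs hql in
lemma PCn.shift {n : ℤ} {X : DerivedCategory C} (h : PCn P n X) (m : ℤ) :
    PCn P (n - m) ((shiftFunctor (DerivedCategory C) m).obj X) := by
  obtain ⟨E, ⟨⟨b, hb⟩, hP⟩, ⟨f⟩⟩ := h
  exact ⟨(shiftFunctor (CochainComplex C ℤ) m).obj E,
    ⟨⟨b - m, fun i hi => hb (i + m) (by omega)⟩, fun i hi => hP (i + m) (by omega)⟩,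
    ⟨(Q.commShiftIso m).app E ≪≫ (shiftFunctor (DerivedCategory C) m).mapIso f⟩⟩

lemma PCn.obj₂ {n : ℤ} {T : Triangle (DerivedCategory C)} (hT : T ∈ distinguishedTriangles)
    (h₁ : PCn P n T.obj₁) (h₃ : PCn P n T.obj₃) : PCn P n T.obj₂ := by
  have := h₃.shift (-1)
  rw [sub_neg_eq_add] at this
  exact PCn.obj₃ hsum hqs hql (inv_rot_of_distTriang _ hT) this h₁

lemma PCn.obj₁ {n : ℤ} {T : Triangle (DerivedCategory C)} (hT : T ∈ distinguishedTriangles)
    (h₂ : PCn P (n + 1) T.obj₂) (h₃ : PCn P n T.obj₃) : PCn P (n + 1) T.obj₁ := by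
  have := (PCn.obj₃ hsum hqs hql (rot_of_distTriang _ hT) h₂ h₃).shift (-1)
  rw [sub_neg_eq_add] at this
  exact this.of_iso ((shiftEquiv (DerivedCategory C) (1 : ℤ)).unitIso.app T.obj₁).symm

lemma pcn_cone {n : ℤ} {E F : CochainComplex C ℤ} (u : E ⟶ F) (hE : IsStrictPC P (n + 1) E)
    (hF : PCn P n (Q.obj F)) : PCn P n (Q.obj (mappingCone u)) :=
  PCn.obj₃ hsum hqs hql (DerivedCategory.mappingCone_triangle_distinguished u) ⟨E, hE, ⟨Iso.refl _⟩⟩ hF

/-- descending to degree `n` towards an `n`-pseudo-coherent complex -/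
lemma exists_iter_pc {n : ℤ} {E F : CochainComplex C ℤ} (hF : PCn P n (Q.obj F)) (u : E ⟶ F)
    (hE : IsStrictPC P n E) {k : ℤ} (hk : n ≤ k) (hu : NQ u k) :
    ∃ (E' : CochainComplex C ℤ) (v : E ⟶ E') (u' : E' ⟶ F), v ≫ u' = u ∧
      IsMod P (Set.Ico n k) v ∧ IsStrictPC P n E' ∧ NQ u' n := by
  have e : n + ((k - n).toNat : ℤ) = k := by omega
  have := exists_iter P hsum hql (F := F) (fun E₀ => IsStrictPC P n E₀) n
    (fun E₀ w j hj hE₀ hw => ft_cone hqs hj w (pcn_cone hsum hqs hql w (strict_mono (by omega) hE₀) hF) hw)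
    (fun A A' w j _ hA hw => strict_of_isMod (k := j) (fun i hi => le_of_eq hi) hw hA)
    (k - n).toNat E u hE (by rw [e]; exact hu)
  rwa [e] at this

/-- SGA 6 I 2.2 d: replacing by a bounded complex with all terms in `C₀`, up to degree `n` -/
lemma exists_bounded {n : ℤ} {F : CochainComplex C ℤ} (hF : PCn P n (Q.obj F)) {k : ℤ} (hk : n ≤ k)
    (hac : ∀ i, k ≤ i → F.ExactAt i) :
    ∃ (E : CochainComplex C ℤ) (u : E ⟶ F), (∀ i, i < n ∨ k ≤ i → IsZero (E.X i)) ∧ (∀ i, P (E.X i)) ∧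
      NQ u n := by
  obtain ⟨E, v, u, -, hv, -, hu⟩ :=
    exists_iter_pc hsum hqs hql hF (0 : (0 : CochainComplex C ℤ) ⟶ F) (strict_zero n) hk (nq_zero k hac)
  refine ⟨E, u, fun i hi => ?_, fun i => hv.prop i (strictAll_zero.2 i), hu⟩
  haveI := hv.iso i (fun h => by have := h.1; have := h.2; omega)
  exact ((HomologicalComplex.eval C (ComplexShape.up ℤ) i).map_isZero (isZero_zero _)).of_iso (asIso (v.f i)).symm

/-- SGA 6 I 2.4 bis: completing with terms in `C₀` -/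
lemma exists_all {E F : CochainComplex C ℤ} (hF : ∀ m, PCn P m (Q.obj F)) (u : E ⟶ F) (hE : IsStrictPCAll P E)
    {k : ℤ} (hu : NQ u k) :
    ∃ (E' : CochainComplex C ℤ) (v : E ⟶ E') (u' : E' ⟶ F), v ≫ u' = u ∧
      IsMod P (Set.Iio k) v ∧ IsStrictPCAll P E' ∧ QuasiIso u' := by
  obtain ⟨E', v, u', e, hv, hq⟩ := exists_complete P hsum hql (F := F) (fun E₀ => IsStrictPCAll P E₀) k
    (fun E₀ w j _ hE₀ hw => ft_cone hqs le_rfl w (pcn_cone hsum hqs hql w (strict_of_all hE₀ _) (hF j)) hw)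
    (fun A A' w j _ hA hw => by
      obtain ⟨⟨b, hb⟩, hP⟩ := hA
      refine ⟨⟨max b j, fun i hi => ?_⟩, fun i => hw.prop i (hP i)⟩
      haveI := hw.iso i (fun (h : i = j) => by omega)
      exact (hb i (by omega)).of_iso (asIso (w.f i)).symm)
    u hE hu
  obtain ⟨⟨b, hb⟩, hP⟩ := hE
  refine ⟨E', v, u', e, hv, ⟨⟨max b k, fun i hi => ?_⟩, fun i => hv.prop i (hP i)⟩, hq⟩
  haveI := hv.iso i (fun (h : i < k) => by omega)
  exact (hb i (by omega)).of_iso (asIso (v.f i)).symm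

/-- SGA 6 I 2.4: pseudo-coherent complexes receive quasi-isomorphisms from strictly pseudo-coherent ones -/
lemma exists_all_zero {F : CochainComplex C ℤ} (hF : ∀ m, PCn P m (Q.obj F)) {k : ℤ}
    (hac : ∀ i, k ≤ i → F.ExactAt i) :
    ∃ (E : CochainComplex C ℤ) (u : E ⟶ F), (∀ i, P (E.X i)) ∧ (∀ i, k ≤ i → IsZero (E.X i)) ∧
      IsStrictPCAll P E ∧ QuasiIso u := by
  obtain ⟨E, v, u, -, hv, hE, hq⟩ :=
    exists_all hsum hqs hql hF (0 : (0 : CochainComplex C ℤ) ⟶ F) strictAll_zero (nq_zero k hac)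
  refine ⟨E, u, hE.2, fun i hi => ?_, hE, hq⟩
  haveI := hv.iso i (fun (h : i < k) => by omega)
  exact ((HomologicalComplex.eval C (ComplexShape.up ℤ) i).map_isZero (isZero_zero _)).of_iso (asIso (v.f i)).symm

lemma exists_all_qis {F : CochainComplex C ℤ} (hF : ∀ m, PCn P m (Q.obj F)) :
    ∃ (E : CochainComplex C ℤ) (u : E ⟶ F), IsStrictPCAll P E ∧ QuasiIso u := by
  obtain ⟨b, hb⟩ := (hF 0).exists_bound
  obtain ⟨E, u, -, -, hE, hq⟩ := exists_all_zero hsum hqs hql hF (k := b + 1)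
    fun i hi => (exactAt_iff_Q (Iso.refl _) i).2 (hb i (by omega))
  exact ⟨E, u, hE, hq⟩

/-- SGA 6 I 2.2 b -/
lemma pcn_of_ft {n : ℤ} {X : DerivedCategory C} (hac : ∀ i, n < i → IsZero ((DerivedCategory.homologyFunctor C i).obj X))
    (h : IsOfFiniteType P ((DerivedCategory.homologyFunctor C n).obj X)) : PCn P n X := by
  obtain ⟨F, ⟨e⟩⟩ : ∃ F, Nonempty (Q.obj F ≅ X) := ⟨_, ⟨Q.objObjPreimageIso X⟩⟩
  have hnq : NQ (0 : (0 : CochainComplex C ℤ) ⟶ F) (n + 1) :=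
    nq_zero _ fun i hi => (exactAt_iff_Q e i).2 (hac i (by omega))
  haveI : IsIso (CochainComplex.mappingCone.inr (0 : (0 : CochainComplex C ℤ) ⟶ F)) := by
    haveI : ∀ i, IsIso ((CochainComplex.mappingCone.inr (0 : (0 : CochainComplex C ℤ) ⟶ F)).f i) := fun i =>
      isIso_inr _ i ((HomologicalComplex.eval C (ComplexShape.up ℤ) _).map_isZero (isZero_zero _))
    exact HomologicalComplex.Hom.isIso_of_components _
  obtain ⟨E', v, u', -, hv, -, hu'⟩ := exists_step P hsum hql _ n hnq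
    (ft_of_epi ((DerivedCategory.homologyFunctor C n).map e.inv ≫ (homologyQIso F n).hom ≫
      HomologicalComplex.homologyMap (CochainComplex.mappingCone.inr (0 : (0 : CochainComplex C ℤ) ⟶ F)) n) h)
  exact (pcn_of_nq u' (strict_of_isMod (k := n) (fun i hi => le_of_eq hi) hv (strict_zero n)) hu').of_iso e

end D

end Groth.Agent.H7.PC
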