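import Groth.Agent.H7.PC.Basic2
import Groth.Agent.DerAdj.Basic

/-! Dévissage for pseudo-coherence (SGA 6 I 2.4–2.14). -/

set_option backward.isDefEq.respectTransparency false
set_option linter.unusedSectionVars false

universe w v u

open CategoryTheory CategoryTheory.Limits ZeroObject CategoryTheory.Pretriangulated HomologicalComplex
open DerivedCategory (Q)

namespace Groth.Agent.H7.PC

variable {C : Type u} [Category.{v} C] [Abelian C] [HasDerivedCategory.{w} C]

open PCoh

local notation "H" => DerivedCategory.homologyFunctor C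

/-- the brutal peeling of the top degree -/
lemma exists_peel (F : CochainComplex C ℤ) (b : ℤ) (hb : ∀ i, b < i → IsZero (F.X i)) :
    ∃ (G : CochainComplex C ℤ) (f : (DerivedCategory.singleFunctor C b).obj (F.X b) ⟶ Q.obj F) (g : Q.obj F ⟶ Q.obj G)
      (h : Q.obj G ⟶ (shiftFunctor (DerivedCategory C) (1 : ℤ)).obj ((DerivedCategory.singleFunctor C b).obj (F.X b))),
      Triangle.mk f g h ∈ distinguishedTriangles ∧ (∀ i, b ≤ i → IsZero (G.X i)) ∧
      ∀ i, i < b → Nonempty (F.X i ≅ G.X i) := by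
  let ι : (CochainComplex.singleFunctor C b).obj (F.X b) ⟶ F :=
    mkHomFromSingle (𝟙 _) (fun k hk => (hb k (by change b + 1 = k at hk; omega)).eq_of_tgt _ _)
  haveI hiso : IsIso (ι.f b) := by
    simp only [ι, mkHomFromSingle_f]; infer_instance
  haveI : ∀ i, Mono (ι.f i) := fun i => by
    by_cases hi : i = b
    · subst hi; infer_instance
    · exact ⟨fun a c _ => (isZero_single_obj_X (ComplexShape.up ℤ) b (F.X b) i hi).eq_of_tgt a c⟩
  haveI : Mono ι := HomologicalComplex.mono_of_mono_f ι inferInstance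
  let S := ShortComplex.mk ι (cokernel.π ι) (cokernel.condition ι)
  have hS : S.ShortExact :=
    { exact := ShortComplex.exact_of_g_is_cokernel _ (cokernelIsCokernel ι) }
  refine ⟨cokernel ι, Q.map ι, Q.map (cokernel.π ι), DerivedCategory.triangleOfSESδ hS,
    DerivedCategory.triangleOfSES_distinguished hS, fun i hi => ?_, fun i hi => ?_⟩
  · have hi' := hS.map_of_exact (HomologicalComplex.eval C (ComplexShape.up ℤ) i)
    haveI := hi'.epi_g
    rcases hi.lt_or_eq with h | rfl
    · exact IsZero.of_epi ((S.map (HomologicalComplex.eval C (ComplexShape.up ℤ) i)).g) (hb i h)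
    · have hg : (cokernel.π ι).f b = 0 := by
        rw [← cancel_epi (ι.f b), comp_zero, ← comp_f, cokernel.condition, zero_f]
      haveI : Epi ((cokernel.π ι).f b) := hi'.epi_g
      exact IsZero.of_epi_eq_zero _ hg
  · have hi' := hS.map_of_exact (HomologicalComplex.eval C (ComplexShape.up ℤ) i)
    haveI : Epi ((cokernel.π ι).f i) := hi'.epi_g
    haveI : Mono ((cokernel.π ι).f i) :=
      hi'.exact.mono_g ((isZero_single_obj_X (ComplexShape.up ℤ) b (F.X b) i (ne_of_lt hi)).eq_of_src _ _)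
    haveI : IsIso ((cokernel.π ι).f i) := isIso_of_mono_of_epi _
    exact ⟨asIso ((cokernel.π ι).f i)⟩

/-- the brutal peeling of the bottom degree -/
lemma exists_peel_bottom (F : CochainComplex C ℤ) (a : ℤ) (ha : ∀ i, i < a → IsZero (F.X i)) :
    ∃ (G : CochainComplex C ℤ) (f : Q.obj G ⟶ Q.obj F) (g : Q.obj F ⟶ (DerivedCategory.singleFunctor C a).obj (F.X a))
      (h : (DerivedCategory.singleFunctor C a).obj (F.X a) ⟶ (shiftFunctor (DerivedCategory C) (1 : ℤ)).obj (Q.obj G)),
      Triangle.mk f g h ∈ distinguishedTriangles ∧ (∀ i, i ≤ a → IsZero (G.X i)) ∧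
      ∀ i, a < i → Nonempty (G.X i ≅ F.X i) := by
  let π : F ⟶ (CochainComplex.singleFunctor C a).obj (F.X a) :=
    mkHomToSingle (𝟙 _) (fun k hk => (ha k (by change k + 1 = a at hk; omega)).eq_of_src _ _)
  haveI hiso : IsIso (π.f a) := by
    simp only [π, mkHomToSingle_f]; infer_instance
  haveI : ∀ i, Epi (π.f i) := fun i => by
    by_cases hi : i = a
    · subst hi; infer_instance
    · exact ⟨fun u c _ => (isZero_single_obj_X (ComplexShape.up ℤ) a (F.X a) i hi).eq_of_src u c⟩
  haveI : Epi π := HomologicalComplex.epi_of_epi_f π inferInstance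
  let S := ShortComplex.mk (kernel.ι π) π (kernel.condition π)
  have hS : S.ShortExact :=
    { exact := ShortComplex.exact_of_f_is_kernel _ (kernelIsKernel π) }
  refine ⟨kernel π, Q.map (kernel.ι π), Q.map π, DerivedCategory.triangleOfSESδ hS,
    DerivedCategory.triangleOfSES_distinguished hS, fun i hi => ?_, fun i hi => ?_⟩
  · have hi' := hS.map_of_exact (HomologicalComplex.eval C (ComplexShape.up ℤ) i)
    haveI : Mono ((kernel.ι π).f i) := hi'.mono_f
    rcases hi.lt_or_eq with h | rfl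
    · exact IsZero.of_mono ((kernel.ι π).f i) (ha i h)
    · have hf : (kernel.ι π).f i = 0 := by
        rw [← cancel_mono (π.f i), zero_comp, ← comp_f, kernel.condition, zero_f]
      exact IsZero.of_mono_eq_zero _ hf
  · have hi' := hS.map_of_exact (HomologicalComplex.eval C (ComplexShape.up ℤ) i)
    haveI : Mono ((kernel.ι π).f i) := hi'.mono_f
    haveI : Epi ((kernel.ι π).f i) :=
      hi'.exact.epi_f ((isZero_single_obj_X (ComplexShape.up ℤ) a (F.X a) i (ne_of_gt hi)).eq_of_tgt _ _)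
    haveI : IsIso ((kernel.ι π).f i) := isIso_of_mono_of_epi _
    exact ⟨asIso ((kernel.ι π).f i)⟩

variable {P : ObjectProperty C} [P.IsClosedUnderIsomorphisms] [P.ContainsZero]

/-- moving an object of the heart to degree `b` -/
lemma pcn_single {n : ℤ} (b : ℤ) {X : C} (h : PCn P (n - b) ((DerivedCategory.singleFunctor C 0).obj X)) :
    PCn P n ((DerivedCategory.singleFunctor C b).obj X) := by
  have := (h.shift (-b)).of_iso (((DerivedCategory.singleFunctors C).shiftIso (-b) b 0 (by omega)).app X)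
  rwa [show n - b - -b = n by omega] at this

lemma pcn_single_of_P {X : C} (hX : P X) (b n : ℤ) : PCn P n ((DerivedCategory.singleFunctor C b).obj X) :=
  ⟨(CochainComplex.singleFunctor C b).obj X,
    ⟨⟨b, fun i hi => isZero_single_obj_X _ _ _ _ (ne_of_gt hi)⟩, fun i _ => P_single P hX b i⟩,
    ⟨((DerivedCategory.singleFunctorIsoCompQ C b).app X).symm⟩⟩

variable (hsum : ∀ X Y : C, P X → P Y → P (X ⨯ Y)) (hqs : IsQuasiStableUnderKernels P) (hql : IsQuasiLiftable P)
include hsum hqs hql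

/-- SGA 6 I 2.5 c: a complex with pseudo-coherent terms -/
lemma pcn_of_terms (n : ℤ) (F : CochainComplex C ℤ) (b : ℤ) (hb : ∀ i : ℤ, b < i → IsZero (F.X i))
    (hfp : ∀ i : ℤ, n ≤ i → PCn P (n - i) ((DerivedCategory.singleFunctor C 0).obj (F.X i))) :
    PCn P n (Q.obj F) := by
  obtain ⟨d, hd⟩ : ∃ d : ℕ, b < n + d := ⟨(b - n + 1).toNat, by omega⟩
  induction d generalizing F b with
  | zero =>
    exact pcn_of_isZero fun i hi => (isZero_homologyQ_iff F i).2 (ExactAt.of_isZero (hb i (by omega)))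
  | succ d ih =>
    by_cases hbn : b < n
    · exact pcn_of_isZero fun i hi => (isZero_homologyQ_iff F i).2 (ExactAt.of_isZero (hb i (by omega)))
    obtain ⟨G, f, g, h, hT, hG0, hG1⟩ := exists_peel F b hb
    refine PCn.obj₂ hsum hqs hql hT (pcn_single b (hfp b (not_lt.1 hbn)))
      (ih G (b - 1) (fun i hi => hG0 i (by omega)) (fun i hi => ?_) (by omega))
    by_cases hib : i < b
    · obtain ⟨e⟩ := hG1 i hib
      exact (hfp i hi).of_iso ((DerivedCategory.singleFunctor C 0).mapIso e)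
    · exact pcn_of_isZero fun j hj =>
        (H j).map_isZero ((DerivedCategory.singleFunctor C 0).map_isZero (hG0 i (by omega)))

/-- SGA 6 I 2.5 d: a complex with pseudo-coherent cohomology -/
lemma pcn_of_homology (n : ℤ) (F : DerivedCategory C) (b : ℤ) (hb : ∀ i : ℤ, b < i → IsZero ((H i).obj F))
    (hfp : ∀ i : ℤ, n ≤ i → PCn P (n - i) ((DerivedCategory.singleFunctor C 0).obj ((H i).obj F))) :
    PCn P n F := by
  obtain ⟨d, hd⟩ : ∃ d : ℕ, b < n + d := ⟨(b - n + 1).toNat, by omega⟩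
  induction d generalizing F b with
  | zero => exact pcn_of_isZero fun i hi => hb i (by omega)
  | succ d ih =>
    by_cases hbn : b < n
    · exact pcn_of_isZero fun i hi => hb i (by omega)
    obtain ⟨T, hT, rfl, h₁, h₃⟩ := Groth.Agent.DerAdj.exists_truncTriangle F b
    haveI := h₁; haveI := h₃
    haveI : T.obj₂.IsLE b := (DerivedCategory.isLE_iff _ _).2 hb
    haveI := Groth.Agent.DerAdj.isLE_obj₃ hT b b h₁ h₃ inferInstance
    obtain ⟨M, ⟨e⟩⟩ := DerivedCategory.exists_iso_singleFunctor_obj_of_isGE_of_isLE T.obj₃ b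
    haveI := Groth.Agent.DerAdj.isIso_mor₂ hT b (DerivedCategory.isZero_of_isLE T.obj₁ (b - 1) b (by omega))
      (DerivedCategory.isZero_of_isLE T.obj₁ (b - 1) (b + 1) (by omega))
    refine PCn.obj₂ hsum hqs hql hT (ih T.obj₁ (b - 1) (fun i hi => DerivedCategory.isZero_of_isLE T.obj₁ (b - 1) i hi)
      (fun i hi => ?_) (by omega)) ((pcn_single b ((hfp b (not_lt.1 hbn)).of_iso
        ((DerivedCategory.singleFunctor C 0).mapIso (asIso ((H b).map T.mor₂) ≪≫ (H b).mapIso e ≪≫
          (DerivedCategory.singleFunctorCompHomologyFunctorIso C b).app M)))).of_iso e.symm)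
    by_cases hib : i < b
    · haveI := Groth.Agent.DerAdj.isIso_mor₁ hT i (DerivedCategory.isZero_of_isGE T.obj₃ b (i - 1) (by omega))
        (DerivedCategory.isZero_of_isGE T.obj₃ b i hib)
      exact (hfp i hi).of_iso ((DerivedCategory.singleFunctor C 0).mapIso (asIso ((H i).map T.mor₁)).symm)
    · exact pcn_of_isZero fun j hj => (H j).map_isZero ((DerivedCategory.singleFunctor C 0).map_isZero
        (DerivedCategory.isZero_of_isLE T.obj₁ (b - 1) i (by omega)))

omit hsum hqs hql in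
lemma pcn_of_le {P₁ : ObjectProperty C} (hle : ∀ X : C, P X → P₁ X) {n : ℤ} {F : DerivedCategory C}
    (h : PCn P n F) : PCn P₁ n F := by
  obtain ⟨E, hE, he⟩ := h
  exact ⟨E, ⟨hE.1, fun i hi => hle _ (hE.2 i hi)⟩, he⟩

/-- SGA 6 I 2.9: enlarging `C₀` by pseudo-coherent objects -/
lemma pcn_of_pcn_larger {P₁ : ObjectProperty C} (hpc : ∀ X : C, P₁ X → PCoh.IsPC P ((DerivedCategory.singleFunctor C 0).obj X))
    {n : ℤ} {F : DerivedCategory C} (h : PCn P₁ n F) : PCn P n F := by
  obtain ⟨E, ⟨⟨b, hb⟩, hP⟩, ⟨e⟩⟩ := h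
  exact (pcn_of_terms hsum hqs hql n E b hb fun i hi => hpc _ (hP i hi) _).of_iso e

omit hsum hql in
lemma ft_of_pcn_single {X : C} (h : PCn P 0 ((DerivedCategory.singleFunctor C 0).obj X)) : IsOfFiniteType P X :=
  ft_of_epi ((DerivedCategory.singleFunctorCompHomologyFunctorIso C 0).app X).hom
    (ft_homologyQ hqs le_rfl h fun i hi => DerivedCategory.isZero_of_isLE _ 0 i hi)

lemma qs_of_pc {P₁ : ObjectProperty C} (hle : ∀ X : C, P X → P₁ X)
    (hpc : ∀ X : C, P₁ X → PCoh.IsPC P ((DerivedCategory.singleFunctor C 0).obj X)) :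
    IsQuasiStableUnderKernels P₁ := by
  rintro K hK ⟨N, hN⟩ hP
  let L : CochainComplex C ℤ := K.extend ComplexShape.embeddingUpNat
  have hXn : ∀ j : ℕ, Nonempty (L.X (j : ℤ) ≅ K.X j) := fun j =>
    ⟨K.extendXIso ComplexShape.embeddingUpNat (i := j) rfl⟩
  have hX0 : ∀ i : ℤ, i < 0 → IsZero (L.X i) := fun i hi =>
    K.isZero_extend_X ComplexShape.embeddingUpNat i (fun j (hj : (j : ℤ) = i) => by omega)
  have hXN : ∀ i : ℤ, N < i → IsZero (L.X i) := fun i hi => by
    obtain ⟨j, rfl⟩ : ∃ j : ℕ, i = j := ⟨i.toNat, by omega⟩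
    exact (hN j (by omega)).of_iso (hXn j).some
  have hex : ∀ i : ℤ, L.ExactAt i := fun i => by
    by_cases hi : 0 ≤ i
    · obtain ⟨j, rfl⟩ : ∃ j : ℕ, i = j := ⟨i.toNat, by omega⟩
      exact (K.extend_exactAt_iff ComplexShape.embeddingUpNat (j := j) rfl).2 (hK j)
    · exact ExactAt.of_isZero (hX0 i (by omega))
  obtain ⟨G, f, g, h, hT, hG0, hG1⟩ := exists_peel_bottom L 0 hX0
  have hG : ∀ n : ℤ, PCn P n (Q.obj G) := fun n => by
    refine pcn_of_terms hsum hqs hql n G N (fun i hi => ?_) (fun i _ => ?_)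
    · obtain ⟨e⟩ := hG1 i (by omega)
      exact (hXN i hi).of_iso e
    · by_cases hi : 0 < i
      · obtain ⟨j, rfl⟩ : ∃ j : ℕ, i = j := ⟨i.toNat, by omega⟩
        obtain ⟨e⟩ := hG1 _ hi
        exact (hpc _ (hP j (by omega)) _).imp fun E hE => ⟨hE.1, ⟨hE.2.some ≪≫
          (DerivedCategory.singleFunctor C 0).mapIso (e ≪≫ (hXn j).some).symm⟩⟩
      · exact pcn_of_isZero fun m _ =>
          (H m).map_isZero ((DerivedCategory.singleFunctor C 0).map_isZero (hG0 i (by omega)))
  have h3 := PCn.obj₃ hsum hqs hql hT (n := 0) (hG _)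
    (pcn_of_isZero fun i _ => (isZero_homologyQ_iff L i).2 (hex i))
  obtain ⟨E, π, hE, hπ⟩ := ft_of_pcn_single hqs h3
  haveI := hπ
  exact ⟨E, π ≫ (hXn 0).some.hom, hle _ hE, inferInstance⟩

lemma ql_of_pc {P₁ : ObjectProperty C} (hle : ∀ X : C, P X → P₁ X)
    (hpc : ∀ X : C, P₁ X → PCoh.IsPC P ((DerivedCategory.singleFunctor C 0).obj X)) :
    IsQuasiLiftable P₁ := by
  intro E F u hu hF
  haveI := hu
  obtain ⟨G, a, c, hG, hc, hac⟩ := exists_lift hql u (ft_of_pcn_single hqs (hpc F hF 0)) (𝟙 F)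
  exact ⟨G, a, hle _ hG, by rw [hac, Category.comp_id]; exact hc⟩

/-- SGA 6 I 2.6 -/
lemma pcn_biprod_iff (n : ℤ) (F' F'' : DerivedCategory C) [HasBinaryBiproduct F' F''] :
    PCn P n (F' ⊞ F'') ↔ PCn P n F' ∧ PCn P n F'' := by
  have hT := binaryBiproductTriangle_distinguished F' F''
  refine ⟨fun h => ?_, fun h => PCn.obj₂ hsum hqs hql hT h.1 h.2⟩
  obtain ⟨b, hb⟩ := h.exists_bound
  have key : ∀ d : ℕ, n ≤ max n (b + 1) - d →
      PCn P (max n (b + 1) - d) F' ∧ PCn P (max n (b + 1) - d) F'' := by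
    intro d
    induction d with
    | zero =>
      exact fun _ => ⟨pcn_of_isZero fun i hi => IsZero.of_mono ((H i).map (biprod.inl : F' ⟶ F' ⊞ F''))
          (hb i (by omega)),
        pcn_of_isZero fun i hi => IsZero.of_mono ((H i).map (biprod.inr : F'' ⟶ F' ⊞ F''))
          (hb i (by omega))⟩
    | succ d ih =>
      intro hd
      obtain ⟨h1, h2⟩ := ih (by omega)
      have hs := h.mono hd
      rw [show max n (b + 1) - (d : ℤ) = max n (b + 1) - (d + 1 : ℕ) + 1 by omega] at h1 h2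
      haveI : HasBinaryBiproducts (DerivedCategory C) := HasBinaryBiproducts.of_hasBinaryProducts
      refine ⟨?_, PCn.obj₃ hsum hqs hql hT h1 hs⟩
      exact PCn.obj₃ hsum hqs hql (binaryBiproductTriangle_distinguished F'' F') h2 (hs.of_iso (biprod.braiding F' F''))
  have := key (max n (b + 1) - n).toNat (by omega)
  rwa [show max n (b + 1) - ((max n (b + 1) - n).toNat : ℤ) = n by omega] at this

omit hqs in
/-- SGA 6 I 3: in the coherent case precoherent objects of finite type are pseudo-coherent -/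
lemma pcn_single_of_coh (hcoh : ∀ (X E : C) (u : E ⟶ X), P X → P E → IsOfFiniteType P (kernel u))
    (d : ℕ) {X : C} (hX : IsOfFiniteType P X) (hX' : PreCoh P X) :
    PCn P (-(d : ℤ)) ((DerivedCategory.singleFunctor C 0).obj X) := by
  have hqs : IsQuasiStableUnderKernels P := qs_of_coh hcoh
  induction d generalizing X with
  | zero =>
    exact pcn_of_ft hsum hqs hql (fun i hi => DerivedCategory.isZero_of_isLE _ 0 i (by simpa using hi))
      (ft_of_epi ((DerivedCategory.singleFunctorCompHomologyFunctorIso C 0).app X).inv hX)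
  | succ d ih =>
    obtain ⟨E, π, hE, hπ⟩ := hX
    haveI := hπ
    let S := ShortComplex.mk (kernel.ι π) π (kernel.condition π)
    have hS : S.ShortExact := { exact := ShortComplex.exact_of_f_is_kernel _ (kernelIsKernel π) }
    refine PCn.obj₃ hsum hqs hql hS.singleTriangle_distinguished ?_ (pcn_single_of_P hE 0 _)
    rw [show -((d + 1 : ℕ) : ℤ) + 1 = -(d : ℤ) by omega]
    exact ih (hX' E π hE) (preCoh_of_mono (kernel.ι π) fun A u hA => hcoh E A u hE hA)

omit hqs in
/-- SGA 6 I 3.5: the coherent case -/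
lemma pcn_iff_coh (hcoh : ∀ (X E : C) (u : E ⟶ X), P X → P E → IsOfFiniteType P (kernel u))
    (n : ℤ) (F : DerivedCategory C) (b : ℤ) (hb : ∀ i : ℤ, b < i → IsZero ((H i).obj F)) :
    PCn P n F ↔ (IsOfFiniteType P ((H n).obj F) ∧
      ∀ i : ℤ, n < i → (IsOfFiniteType P ((H i).obj F) ∧ PreCoh P ((H i).obj F))) := by
  have hqs : IsQuasiStableUnderKernels P := qs_of_coh hcoh
  constructor
  · rintro ⟨E, ⟨-, hP⟩, ⟨e⟩⟩
    have hcyc : ∀ i, n ≤ i → IsOfFiniteType P (E.cycles i) := fun i hi =>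
      ft_of_epi ((kernelIsKernel (E.d i (i + 1))).conePointUniqueUpToIso
        (E.cyclesIsKernel i (i + 1) (by simp))).hom (hcoh _ _ _ (hP (i + 1) (by omega)) (hP i hi))
    have hft : ∀ i, n ≤ i → IsOfFiniteType P ((H i).obj F) := fun i hi =>
      ft_of_epi (E.homologyπ i ≫ (homologyQIso E i).inv ≫ (H i).map e.hom) (hcyc i hi)
    refine ⟨hft n le_rfl, fun i hi => ⟨hft i hi.le, ?_⟩⟩
    refine preCoh_of_iso ((homologyQIso E i).symm ≪≫ (H i).mapIso e) ?_
    exact preCoh_cokernel hsum hql (ShortComplex.mk (E.toCycles (i - 1) i) (E.homologyπ i) (by simp))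
      (ShortComplex.exact_of_g_is_cokernel _ (E.homologyIsCokernel (i - 1) i (by simp)))
      (show Epi (E.homologyπ i) from inferInstance) (ft_of_P (hP (i - 1) (by omega)))
      (preCoh_of_mono (E.iCycles i) fun A u hA => hcoh _ A u (hP i hi.le) hA)
  · rintro ⟨h0, h1⟩
    refine pcn_of_homology hsum hqs hql n F b hb fun i hi => ?_
    rcases hi.lt_or_eq with h | rfl
    · obtain ⟨hf, hp⟩ := h1 i h
      refine (pcn_single_of_coh hsum hql hcoh (i - n).toNat hf hp).mono (le_of_eq ?_)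
      omega
    · rw [sub_self]
      exact pcn_of_ft hsum hqs hql (fun i hi => DerivedCategory.isZero_of_isLE _ 0 i hi)
        (ft_of_epi ((DerivedCategory.singleFunctorCompHomologyFunctorIso C 0).app _).inv h0)

/-- SGA 6 I 2.2: the resolutions of length `n` -/
lemma resolution_iff (F : C) (n : ℕ) :
    (∃ K : ChainComplex C ℕ, Nonempty (K.X 0 ≅ F) ∧ (∀ j : ℕ, j ≤ n → K.ExactAt j) ∧
        (∀ j : ℕ, n + 1 < j → IsZero (K.X j)) ∧ (∀ j : ℕ, 1 ≤ j → j ≤ n + 1 → P (K.X j))) ↔
      PCn P (-(n : ℤ)) ((DerivedCategory.singleFunctor C 0).obj F) := by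
  constructor
  · rintro ⟨K, ⟨e₀⟩, hex, hz, hP⟩
    let L : CochainComplex C ℤ := K.extend ComplexShape.embeddingDownNat
    have hXn : ∀ j : ℕ, Nonempty (L.X (-(j : ℤ)) ≅ K.X j) := fun j =>
      ⟨K.extendXIso ComplexShape.embeddingDownNat (i := j) rfl⟩
    have hX0 : ∀ i : ℤ, 0 < i → IsZero (L.X i) := fun i hi =>
      K.isZero_extend_X ComplexShape.embeddingDownNat i (fun j (hj : -(j : ℤ) = i) => by omega)
    have hexL : ∀ i : ℤ, -(n : ℤ) ≤ i → L.ExactAt i := fun i hi => by
      by_cases h : 0 < i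
      · exact ExactAt.of_isZero (hX0 i h)
      · obtain ⟨j, rfl⟩ : ∃ j : ℕ, i = -(j : ℤ) := ⟨(-i).toNat, by omega⟩
        exact (K.extend_exactAt_iff ComplexShape.embeddingDownNat (j := j) rfl).2 (hex j (by omega))
    obtain ⟨G, f, g, h, hT, hG0, hG1⟩ := exists_peel L 0 hX0
    have hG : IsStrictPC P (-(n : ℤ) - 1) G := by
      refine ⟨⟨0, fun i hi => hG0 i hi.le⟩, fun i hi => ?_⟩
      by_cases h : 0 ≤ i
      · exact P.prop_of_isZero (hG0 i h)
      · obtain ⟨j, rfl⟩ : ∃ j : ℕ, i = -(j : ℤ) := ⟨(-i).toNat, by omega⟩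
        exact P.prop_of_iso ((hXn j).some.symm ≪≫ (hG1 _ (by omega)).some) (hP j (by omega) (by omega))
    have h1 := PCn.obj₁ hsum hqs hql hT (n := -(n : ℤ) - 1)
      (pcn_of_isZero fun i hi => (isZero_homologyQ_iff L i).2 (hexL i (by omega))) ⟨G, hG, ⟨Iso.refl _⟩⟩
    rw [sub_add_cancel] at h1
    exact h1.of_iso ((DerivedCategory.singleFunctor C 0).mapIso ((hXn 0).some ≪≫ e₀))
  · intro h
    obtain ⟨E, u, hE, hP, hu⟩ := exists_bounded hsum hqs hql (F := (CochainComplex.singleFunctor C 0).obj F)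
      (h.of_iso ((DerivedCategory.singleFunctorIsoCompQ C 0).app F)) (k := 1) (by omega)
      (fun i hi => ExactAt.of_isZero (isZero_single_obj_X _ _ _ _ (by omega)))
    let M := CochainComplex.mappingCone u
    let K : ChainComplex C ℕ := M.restriction ComplexShape.embeddingDownNat
    have eX : ∀ j : ℕ, K.X j = M.X (-(j : ℤ)) := fun j => rfl
    haveI := isIso_inr u 0 (hE (0 + 1) (Or.inr le_rfl))
    refine ⟨K, ⟨(M.restrictionXIso ComplexShape.embeddingDownNat (i := 0) (i' := 0) rfl) ≪≫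
        (asIso ((CochainComplex.mappingCone.inr u).f 0)).symm ≪≫ singleObjXSelf (ComplexShape.up ℤ) 0 F⟩,
      fun j hj => ?_, fun j hj => ?_, fun j h1 h2 => ?_⟩
    · have hM : M.ExactAt (-(j : ℤ)) := hu _ (by omega)
      match j with
      | 0 =>
        rw [Nat.cast_zero, neg_zero] at hM
        rw [exactAt_iff' _ (-1) 0 1 (by simp) (by simp)] at hM
        have hX1 : IsZero (M.X 1) := (IsZero.iff_id_eq_zero _).2 (CochainComplex.mappingCone.ext_from u (1 + 1) 1 rfl
          ((hE (1 + 1) (Or.inr (by omega))).eq_of_src _ _)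
          ((isZero_single_obj_X (ComplexShape.up ℤ) 0 F 1 (by omega)).eq_of_src _ _))
        haveI hepi : Epi (M.d (-1) 0) := hM.epi_f (hX1.eq_of_tgt _ _)
        rw [exactAt_iff' K 1 0 0 (by simp) (by simp)]
        haveI : Epi (K.d 1 0) := by
          rw [M.restriction_d_eq ComplexShape.embeddingDownNat (i := 1) (j := 0) (i' := -1) (j' := 0) rfl rfl]
          exact epi_comp' inferInstance (epi_comp' hepi inferInstance)
        exact (ShortComplex.exact_iff_epi _ (K.shape 0 0 (by simp))).2 this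
      | (j + 1) =>
        rw [exactAt_iff' _ (-((j + 2 : ℕ) : ℤ)) _ (-(j : ℤ)) (by simp; omega) (by simp)] at hM
        rw [exactAt_iff' K (j + 2) (j + 1) j (by simp) (by simp)]
        refine ShortComplex.exact_of_iso (ShortComplex.isoMk
          (S₁ := M.sc' (-((j + 2 : ℕ) : ℤ)) (-((j + 1 : ℕ) : ℤ)) (-(j : ℤ))) (S₂ := K.sc' (j + 2) (j + 1) j)
          (M.restrictionXIso ComplexShape.embeddingDownNat (i := j + 2) rfl).symm
          (M.restrictionXIso ComplexShape.embeddingDownNat (i := j + 1) rfl).symm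
          (M.restrictionXIso ComplexShape.embeddingDownNat (i := j) rfl).symm ?_ ?_) hM
        · show _ ≫ K.d (j + 2) (j + 1) = M.d _ _ ≫ _
          rw [M.restriction_d_eq ComplexShape.embeddingDownNat (i := j + 2) (j := j + 1) rfl rfl]
          simp; rfl
        · show _ ≫ K.d (j + 1) j = M.d _ _ ≫ _
          rw [M.restriction_d_eq ComplexShape.embeddingDownNat (i := j + 1) (j := j) rfl rfl]
          simp; rfl
    · rw [eX]
      exact (IsZero.iff_id_eq_zero _).2 (CochainComplex.mappingCone.ext_from u (-(j : ℤ) + 1) _ rfl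
        ((hE _ (Or.inl (by omega))).eq_of_src _ _)
        ((isZero_single_obj_X (ComplexShape.up ℤ) 0 F _ (by omega)).eq_of_src _ _))
    · rw [eX]
      exact P_cone P hsum u _ (hP _) (P.prop_of_isZero (isZero_single_obj_X (ComplexShape.up ℤ) 0 F _ (by omega)))

end Groth.Agent.H7.PC
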