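import Groth.Agent.H7.PC.Devissage

/-! Image of pseudo-coherent objects by a triangulated functor (SGA 6 I 2.13). -/

set_option backward.isDefEq.respectTransparency false
set_option linter.unusedSectionVars false

universe w w' v v' u u'

open CategoryTheory CategoryTheory.Limits ZeroObject CategoryTheory.Pretriangulated HomologicalComplex
open DerivedCategory (Q)

namespace Groth.Agent.H7.PC

open PCoh

variable {C : Type u} [Category.{v} C] [Abelian C] [HasDerivedCategory.{w} C]
variable {C' : Type u'} [Category.{v'} C'] [Abelian C'] [HasDerivedCategory.{w'} C']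
variable (F' : DerivedCategory C ⥤ DerivedCategory C') [F'.CommShift ℤ] [F'.IsTriangulated]

local notation "H" => DerivedCategory.homologyFunctor C
local notation "H'" => DerivedCategory.homologyFunctor C'

/-- homology of a shift -/
lemma isZero_homology_shift {D : Type u} [Category.{v} D] [Abelian D] [HasDerivedCategory.{w} D]
    (X : DerivedCategory D) (m i j : ℤ) (h : m + i = j) :
    IsZero ((DerivedCategory.homologyFunctor D i).obj ((shiftFunctor (DerivedCategory D) m).obj X)) ↔
      IsZero ((DerivedCategory.homologyFunctor D j).obj X) :=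
  (((DerivedCategory.homologyFunctor D 0).shiftIso m i j h).app X).isZero_iff

/-- shifting the bound of a bounded functor -/
lemma isZero_image (b : ℤ)
    (hii : ∀ F : DerivedCategory C, (∀ i : ℤ, 0 < i → IsZero ((H i).obj F)) →
      ∀ i : ℤ, b < i → IsZero ((H' i).obj (F'.obj F)))
    (F : DerivedCategory C) (n : ℤ) (h : ∀ i, n < i → IsZero ((H i).obj F)) (i : ℤ) (hi : n + b < i) :
    IsZero ((H' i).obj (F'.obj F)) := by
  have h1 := hii ((shiftFunctor (DerivedCategory C) n).obj F)
    (fun j hj => (isZero_homology_shift F n j (n + j) rfl).2 (h _ (by omega))) (i - n) (by omega)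
  exact (isZero_homology_shift (F'.obj F) n (i - n) i (by omega)).1
    (h1.of_iso ((H' (i - n)).mapIso ((F'.commShiftIso n).app F)).symm)

variable {P : ObjectProperty C} [P.IsClosedUnderIsomorphisms] [P.ContainsZero]
  {P' : ObjectProperty C'} [P'.IsClosedUnderIsomorphisms] [P'.ContainsZero]

/-- SGA 6 I 2.13 -/
lemma pcn_image (hsum : ∀ X Y : C, P X → P Y → P (X ⨯ Y)) (hqs : IsQuasiStableUnderKernels P)
    (hql : IsQuasiLiftable P) (hsum' : ∀ X Y : C', P' X → P' Y → P' (X ⨯ Y))
    (hqs' : IsQuasiStableUnderKernels P') (hql' : IsQuasiLiftable P') (a b : ℤ)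
    (hi : ∀ E : C, P E → PCn P' a (F'.obj ((DerivedCategory.singleFunctor C 0).obj E)))
    (hii : ∀ F : DerivedCategory C, (∀ i : ℤ, 0 < i → IsZero ((H i).obj F)) →
      ∀ i : ℤ, b < i → IsZero ((H' i).obj (F'.obj F)))
    (m n : ℤ) (F : DerivedCategory C) (hF : PCn P m F) (hac : ∀ i : ℤ, n < i → IsZero ((H i).obj F)) :
    PCn P' (max (m + b) (n + a)) (F'.obj F) := by
  by_cases hnm : n < m
  · exact pcn_of_isZero fun i hi' => isZero_image F' b hii F n hac i (by omega)
  obtain ⟨K, ⟨e⟩⟩ : ∃ K, Nonempty (Q.obj K ≅ F) := ⟨_, ⟨Q.objObjPreimageIso F⟩⟩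
  obtain ⟨E, u, hE, hP, hu⟩ := exists_bounded hsum hqs hql (hF.of_iso e.symm) (k := n + 1) (by omega)
    fun i hi' => (exactAt_iff_Q e i).2 (hac i (by omega))
  obtain ⟨E', v, u', -, hq, -, hv⟩ := exists_factorisation u m hu
  haveI : IsIso (Q.map u') := (DerivedCategory.isIso_Q_map_iff_quasiIso (C := C) u').2 hq
  suffices key : ∀ (d : ℕ) (G : CochainComplex C ℤ), (m - 1 + d ≤ n) → (∀ i, m - 1 + d < i → IsZero (G.X i)) →
      (∀ i, m ≤ i → P (G.X i)) → PCn P' (max (m + b) (n + a)) (F'.obj (Q.obj G)) by
    refine (key (n - m + 1).toNat E' (by omega) (fun i hi' => ?_) (fun i hi' => ?_)).of_iso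
      (F'.mapIso (asIso (Q.map u') ≪≫ e))
    · haveI := hv i (by omega)
      exact (hE i (Or.inr (by omega))).of_iso (asIso (v.f i)).symm
    · haveI := hv i hi'
      exact P.prop_of_iso (asIso (v.f i)) (hP i)
  intro d
  induction d with
  | zero =>
    intro G _ hG _
    exact pcn_of_isZero fun i hi' => isZero_image F' b hii _ (m - 1)
      (fun j hj => (isZero_homologyQ_iff G j).2 (ExactAt.of_isZero (hG j (by simpa using hj)))) i (by omega)
  | succ d ih =>
    intro G hd hG hPG
    obtain ⟨G', f, g, h, hT, h0, h1⟩ := exists_peel G (m + d) (fun i hi' => hG i (by omega))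
    refine PCn.obj₂ hsum' hqs' hql' (F'.map_distinguished _ hT) ?_ (ih G' (by omega) (fun i hi' => h0 i (by omega))
      (fun i hi' => ?_))
    · have h2 := ((hi _ (hPG (m + d) (by omega))).shift (-(m + d : ℤ))).mono
        (m := max (m + b) (n + a)) (by omega)
      exact h2.of_iso (((F'.commShiftIso (-(m + d : ℤ))).app _).symm ≪≫
        F'.mapIso (((DerivedCategory.singleFunctors C).shiftIso (-(m + d : ℤ)) (m + d) 0 (by omega)).app (G.X (m + d))))
    · by_cases hid : i < m + d
      · obtain ⟨e'⟩ := h1 i hid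
        exact P.prop_of_iso e' (hPG i hi')
      · exact P.prop_of_isZero (h0 i (by omega))

end Groth.Agent.H7.PC
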