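import Groth.Agent.H7.PC.Devissage

/-! Perfect complexes in the punctual case (SGA 6 I 4). -/

set_option backward.isDefEq.respectTransparency false
set_option linter.unusedSectionVars false

universe w v u

open CategoryTheory CategoryTheory.Limits ZeroObject CategoryTheory.Pretriangulated HomologicalComplex
open DerivedCategory (Q)

namespace Groth.Agent.H7.PC

open PCoh

variable {C : Type u} [Category.{v} C] [Abelian C]
variable {P : ObjectProperty C} [P.IsClosedUnderIsomorphisms] [P.ContainsZero]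
variable (hlift : ∀ (E F : C) (u : E ⟶ F), Epi u → P F → IsSplitEpi u)
variable (hst : ∀ (E F : C) (u : E ⟶ F), Epi u → P E → P F → P (kernel u))

include hlift in
lemma projective_of_hlift {F : C} (hF : P F) : Projective F where
  factors {E B} f e he := by
    haveI := he
    haveI := hlift _ F (pullback.snd e f) inferInstance hF
    exact ⟨section_ (pullback.snd e f) ≫ pullback.fst e f, by
      rw [Category.assoc, pullback.condition, ← Category.assoc, IsSplitEpi.id, Category.id_comp]⟩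

include hlift in
lemma ql_of_hlift : IsQuasiLiftable P := by
  intro E F u hu hF
  haveI := hlift E F u hu hF
  exact ⟨F, section_ u, hF, by rw [IsSplitEpi.id]; infer_instance⟩

omit [P.IsClosedUnderIsomorphisms] [P.ContainsZero] in
lemma epi_toCycles {ι : Type} {c : ComplexShape ι} (K : HomologicalComplex C c) (i j : ι) (hi : c.prev j = i)
    (h : K.ExactAt j) : Epi (K.toCycles i j) := by
  rw [Preadditive.epi_iff_cancel_zero]
  intro Z g hg
  obtain ⟨t, rfl⟩ := CokernelCofork.IsColimit.desc' (K.homologyIsCokernel i j hi) g hg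
  rw [Cofork.π_ofπ, h.isZero_homology.eq_of_src t 0, comp_zero]

include hst in
/-- cycles of a complex which is exact above `k` with terms in `P` from `k` on -/
lemma P_cycles (K : CochainComplex C ℤ) (b : ℤ) (hb : ∀ i, b < i → IsZero (K.X i)) (k : ℤ)
    (hP : ∀ i, k ≤ i → P (K.X i)) (hex : ∀ i, k < i → K.ExactAt i) : P (K.cycles k) := by
  obtain ⟨d, hd⟩ : ∃ d : ℕ, b < k + d := ⟨(b - k + 1).toNat, by omega⟩
  induction d generalizing k with
  | zero => exact P.prop_of_isZero (IsZero.of_mono (K.iCycles k) (hb k (by omega)))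
  | succ d ih =>
    haveI : Epi (K.toCycles k (k + 1)) := epi_toCycles _ _ _ (by simp) (hex _ (by omega))
    have h := hst _ _ (K.toCycles k (k + 1)) inferInstance (hP k le_rfl)
      (ih (k + 1) (fun i hi => hP i (by omega)) (fun i hi => hex i (by omega)) (by omega))
    exact P.prop_of_iso ((kernelCompMono (K.toCycles k (k + 1)) (K.iCycles (k + 1))).symm ≪≫
      kernelIsoOfEq (K.toCycles_i k (k + 1)) ≪≫
      (kernelIsKernel _).conePointUniqueUpToIso (K.cyclesIsKernel k (k + 1) (by simp))) h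

include hst in
lemma qs_of_hst : IsQuasiStableUnderKernels P := by
  rintro K hK ⟨N, hN⟩ hP
  refine ft_of_P ?_
  suffices h : ∀ (d j : ℕ), N + 1 ≤ j + d → P (K.cycles j) by
    have h1 : P (K.cycles 1) := h N 1 (by omega)
    have hmono : Mono (K.d 0 1) := by
      have h0 := hK 0
      rw [exactAt_iff' K 0 0 1 (by simp) (by simp)] at h0
      exact h0.mono_g (K.shape 0 0 (by simp))
    haveI : Epi (K.toCycles 0 1) := epi_toCycles _ _ _ (by simp) (hK 1)
    haveI : Mono (K.toCycles 0 1) := mono_of_mono_fac (K.toCycles_i 0 1)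
    haveI : IsIso (K.toCycles 0 1) := isIso_of_mono_of_epi _
    exact P.prop_of_iso (asIso (K.toCycles 0 1)).symm h1
  intro d
  induction d with
  | zero => exact fun j hj => P.prop_of_isZero (IsZero.of_mono (K.iCycles j) (hN j (by omega)))
  | succ d ih =>
    intro j hj
    by_cases hj0 : j = 0
    · subst hj0
      have h0 := hK 0
      rw [exactAt_iff' K 0 0 1 (by simp) (by simp)] at h0
      haveI : Mono (K.d 0 1) := h0.mono_g (K.shape 0 0 (by simp))
      refine P.prop_of_isZero ((IsZero.iff_id_eq_zero _).2 ?_)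
      rw [← cancel_mono (K.iCycles 0), ← cancel_mono (K.d 0 1)]
      simp
    haveI : Epi (K.toCycles j (j + 1)) := epi_toCycles _ _ _ (by simp) (hK _)
    refine P.prop_of_iso ?_ (hst _ _ (K.toCycles j (j + 1)) inferInstance (hP j (by omega)) (ih (j + 1) (by omega)))
    exact (kernelCompMono (K.toCycles j (j + 1)) (K.iCycles (j + 1))).symm ≪≫
      kernelIsoOfEq (K.toCycles_i j (j + 1)) ≪≫
      (kernelIsKernel _).conePointUniqueUpToIso (K.cyclesIsKernel j (j + 1) (by simp))

include hlift in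
lemma isKProjective_of_terms (E : CochainComplex C ℤ) (b : ℤ) (hb : ∀ i, b < i → IsZero (E.X i))
    (hP : ∀ i, P (E.X i)) : E.IsKProjective := by
  haveI : E.IsStrictlyLE b := (CochainComplex.isStrictlyLE_iff E b).2 hb
  haveI : ∀ i, Projective (E.X i) := fun i => projective_of_hlift hlift (hP i)
  exact CochainComplex.isKProjective_of_projective E b

section D

variable [HasDerivedCategory.{w} C]

omit [P.IsClosedUnderIsomorphisms] [P.ContainsZero] in
lemma exists_hom_of_isKProjective (E L : CochainComplex C ℤ) [E.IsKProjective] (α : Q.obj E ⟶ Q.obj L) :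
    ∃ φ : E ⟶ L, Q.map φ = α := by
  let e := DerivedCategory.quotientCompQhIso C
  obtain ⟨g, hg⟩ := (CochainComplex.IsKProjective.Qh_map_bijective E _).surjective
    (e.hom.app E ≫ α ≫ e.inv.app L)
  obtain ⟨φ, rfl⟩ := (HomotopyCategory.quotient C (ComplexShape.up ℤ)).map_surjective g
  refine ⟨φ, ?_⟩
  have h := e.hom.naturality φ
  simp only [Functor.comp_map] at h
  rw [hg] at h
  simpa using h.symm

variable (P) in
/-- perfect of amplitude in `[a, b]` -/
def Amp (a b : ℤ) (X : DerivedCategory C) : Prop :=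
  ∃ E : CochainComplex C ℤ, (∀ i : ℤ, P (E.X i)) ∧ (∀ i : ℤ, i < a ∨ b < i → IsZero (E.X i)) ∧
    Nonempty (Q.obj E ≅ X)

include hlift in
/-- SGA 6 I 4.9: cones of perfect complexes -/
lemma perfect_obj₃ (hsum : ∀ X Y : C, P X → P Y → P (X ⨯ Y)) {T : Triangle (DerivedCategory C)}
    (hT : T ∈ distinguishedTriangles)
    (h₁ : ∃ a b, Amp P a b T.obj₁) (h₂ : ∃ a b, Amp P a b T.obj₂) : ∃ a b, Amp P a b T.obj₃ := by
  obtain ⟨a, b, E, hP, hE, ⟨e₁⟩⟩ := h₁
  obtain ⟨a', b', E', hP', hE', ⟨e₂⟩⟩ := h₂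
  haveI := isKProjective_of_terms hlift E b (fun i hi => hE i (Or.inr hi)) hP
  obtain ⟨φ, hφ⟩ := exists_hom_of_isKProjective E E' (e₁.hom ≫ T.mor₁ ≫ e₂.inv)
  refine ⟨min (a - 1) a', max b b', CochainComplex.mappingCone φ, fun i => P_cone P hsum φ i (hP _) (hP' i),
    fun i hi => (IsZero.iff_id_eq_zero _).2 (CochainComplex.mappingCone.ext_from φ (i + 1) i rfl
      ((hE (i + 1) (by omega)).eq_of_src _ _) ((hE' i (by omega)).eq_of_src _ _)),
    ⟨Triangle.π₃.mapIso (isoTriangleOfIso₁₂ _ T (DerivedCategory.mappingCone_triangle_distinguished φ) hT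
      e₁ e₂ ?_)⟩⟩
  show Q.map φ ≫ e₂.hom = e₁.hom ≫ T.mor₁
  rw [hφ]; simp

include hst in
/-- SGA 6 I 4.6: truncating from above -/
lemma amp_truncLE (a b c : ℤ) (hab : a ≤ b) (F : CochainComplex C ℤ)
    (hP : ∀ i : ℤ, P (F.X i)) (hvan : ∀ i : ℤ, i < a ∨ c < i → IsZero (F.X i))
    (hcoh : ∀ i : ℤ, b < i → IsZero (F.homology i)) : Amp P a (min b c) (Q.obj F) := by
  by_cases hbc : c ≤ b
  · exact ⟨F, hP, fun i hi => hvan i (by omega), ⟨Iso.refl _⟩⟩
  haveI : F.IsLE b := (CochainComplex.isLE_iff F b).2 fun i hi => (exactAt_iff_isZero_homology F i).2 (hcoh i hi)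
  haveI : IsIso (Q.map (F.ιTruncLE b)) := (DerivedCategory.isIso_Q_map_iff_quasiIso (C := C) _).2 inferInstance
  refine ⟨F.truncLE b, fun i => ?_, fun i hi => ?_, ⟨asIso (Q.map (F.ιTruncLE b))⟩⟩
  · rcases lt_trichotomy i b with h | rfl | h
    · exact P.prop_of_iso (F.truncLEXIso b i h).symm (hP i)
    · exact P.prop_of_iso (F.truncLEXIsoCycles i).symm (P_cycles hst F c (fun j hj => hvan j (Or.inr hj)) i
        (fun j _ => hP j) (fun j hj => (exactAt_iff_isZero_homology F j).2 (hcoh j hj)))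
    · exact P.prop_of_isZero ((F.truncLE b).isZero_of_isStrictlyLE b i h)
  · rcases hi with h | h
    · exact (hvan i (Or.inl h)).of_iso (F.truncLEXIso b i (by omega))
    · exact (F.truncLE b).isZero_of_isStrictlyLE b i (by omega)

include hlift hst in
/-- SGA 6 I 4.4 -/
lemma P_bottom (hsum : ∀ X Y : C, P X → P Y → P (X ⨯ Y)) (a b : ℤ) (F : CochainComplex C ℤ)
    (hvan : ∀ i : ℤ, i < a ∨ b < i → IsZero (F.X i)) (hP : ∀ i : ℤ, a < i → P (F.X i))
    (hamp : Amp P a b (Q.obj F)) : P (F.X a) := by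
  obtain ⟨E, hPE, hE, ⟨e⟩⟩ := hamp
  haveI := isKProjective_of_terms hlift E b (fun i hi => hE i (Or.inr hi)) hPE
  obtain ⟨φ, hφ⟩ := exists_hom_of_isKProjective E F e.hom
  haveI : IsIso (Q.map φ) := by rw [hφ]; infer_instance
  have hq : QuasiIso φ := (DerivedCategory.isIso_Q_map_iff_quasiIso (C := C) φ).1 inferInstance
  let M := CochainComplex.mappingCone φ
  have hex : ∀ i, M.ExactAt i := fun i => (nq_quasiIso_iff φ).1 hq i i le_rfl
  have hMP : ∀ i, a < i → P (M.X i) := fun i hi => P_cone P hsum φ i (hPE _) (hP i hi)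
  have hMz : ∀ i, b < i → IsZero (M.X i) := fun i hi =>
    (IsZero.iff_id_eq_zero _).2 (CochainComplex.mappingCone.ext_from φ (i + 1) i rfl
      ((hE (i + 1) (by omega)).eq_of_src _ _) ((hvan i (Or.inr hi)).eq_of_src _ _))
  have hcyc : P (M.cycles (a + 1)) := P_cycles hst M b hMz (a + 1) (fun i hi => hMP i (by omega)) (fun i _ => hex i)
  haveI : Epi (M.toCycles a (a + 1)) := epi_toCycles _ _ _ (by simp) (hex _)
  haveI : IsIso ((CochainComplex.mappingCone.fst φ).1.v (a - 1) a (by omega)) :=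
    ⟨(CochainComplex.mappingCone.inl φ).v a (a - 1) (by omega),
      CochainComplex.mappingCone.ext_from φ a (a - 1) (by omega) (by simp) ((hvan (a - 1) (by omega)).eq_of_src _ _),
      CochainComplex.mappingCone.inl_v_fst_v φ a (a - 1) (by omega)⟩
  have hX : P (M.X (a - 1)) := P.prop_of_iso (asIso ((CochainComplex.mappingCone.fst φ).1.v (a - 1) a _)).symm
    (hPE a)
  have hd : M.d (a - 1) a ≫ M.toCycles a (a + 1) = 0 := by
    rw [← cancel_mono (M.iCycles (a + 1))]; simp
  have hS : (ShortComplex.mk _ _ hd).ShortExact := by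
    have h1 := hex a
    rw [exactAt_iff' M (a - 1) a (a + 1) (by simp) (by simp)] at h1
    have h2 := hex (a - 1)
    rw [exactAt_iff' M (a - 2) (a - 1) a (by simp; omega) (by simp)] at h2
    have hz : IsZero (M.X (a - 2)) :=
      (IsZero.iff_id_eq_zero _).2 (CochainComplex.mappingCone.ext_from φ (a - 1) (a - 2) (by omega)
        ((hE (a - 1) (by omega)).eq_of_src _ _) ((hvan (a - 2) (by omega)).eq_of_src _ _))
    haveI : Mono (M.d (a - 1) a) := h2.mono_g (hz.eq_of_src _ _)
    haveI : Mono (ShortComplex.mk _ _ hd).f := inferInstanceAs (Mono (M.d (a - 1) a))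
    refine { exact := ?_ }
    rw [ShortComplex.exact_iff_exact_up_to_refinements]
    intro A x hx
    exact h1.exact_up_to_refinements x (by
      show x ≫ M.d a (a + 1) = 0
      rw [← M.toCycles_i a (a + 1)]
      exact (reassoc_of% hx) _ |>.trans zero_comp)
  haveI : Projective (ShortComplex.mk _ _ hd).X₃ := projective_of_hlift hlift hcyc
  have hMa : P (M.X a) :=
    P.prop_of_iso (hS.splittingOfProjective).isoBinaryBiproduct.symm (P_biprod P hsum hX hcyc)
  let p := (CochainComplex.mappingCone.fst φ).1.v a (a + 1) rfl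
  haveI : IsSplitEpi p := ⟨⟨(CochainComplex.mappingCone.inl φ).v (a + 1) a (by omega), by simp [p]⟩⟩
  have hk := hst _ _ p inferInstance hMa (hPE (a + 1))
  refine P.prop_of_iso ((kernelIsKernel p).conePointUniqueUpToIso (KernelFork.IsLimit.ofι
    ((CochainComplex.mappingCone.inr φ).f a) (by simp [p]) (fun g _ => g ≫ (CochainComplex.mappingCone.snd φ).v a a (add_zero a))
    (fun g hg => ?_) (fun g hg m hm => by rw [← hm]; simp))) hk
  apply CochainComplex.mappingCone.ext_to φ a (a + 1) rfl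
  · simpa using hg.symm
  · simp

include hlift hst in
/-- SGA 6 I 4.6: direct sums and direct summands -/
lemma amp_biprod (hsum : ∀ X Y : C, P X → P Y → P (X ⨯ Y)) (a b : ℤ) (F' F'' : DerivedCategory C)
    [HasBinaryBiproduct F' F''] (h' : Amp P a b F') (h'' : Amp P a b F'') : Amp P a b (F' ⊞ F'') := by
  obtain ⟨E, hP, hE, ⟨e⟩⟩ := h'
  obtain ⟨E', hP', hE', ⟨e'⟩⟩ := h''
  haveI : HasBinaryBiproducts (DerivedCategory C) := HasBinaryBiproducts.of_hasBinaryProducts
  haveI := preservesBinaryBiproducts_of_preservesBiproducts (DerivedCategory.Q (C := C))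
  refine ⟨E ⊞ E', fun i => P.prop_of_iso ((HomologicalComplex.eval C (ComplexShape.up ℤ) i).mapBiprod E E').symm
      (P_biprod P hsum (hP i) (hP' i)), fun i hi => ?_, ⟨Q.mapBiprod E E' ≪≫ biprod.mapIso e e'⟩⟩
  exact ((biprod_isZero_iff (E.X i) (E'.X i)).2 ⟨hE i hi, hE' i hi⟩).of_iso
    ((HomologicalComplex.eval C (ComplexShape.up ℤ) i).mapBiprod E E')

include hlift hst in
lemma amp_summand (hsum : ∀ X Y : C, P X → P Y → P (X ⨯ Y))
    (hsummand : ∀ (E' E'' : C) [HasBinaryBiproduct E' E''], P (E' ⊞ E'') → P E' ∧ P E'')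
    (a b : ℤ) (hab : a ≤ b) (X Y : DerivedCategory C) (i₀ : X ⟶ Y) (r₀ : Y ⟶ X) (hir : i₀ ≫ r₀ = 𝟙 X)
    (hpc : ∀ n, PCn P n X) (hY : Amp P a b Y) : Amp P a b X := by
  obtain ⟨E, hP, hE, ⟨e⟩⟩ := hY
  have hql := ql_of_hlift hlift
  have hqs := qs_of_hst hst
  have hXz : ∀ i, i < a ∨ b < i → IsZero ((DerivedCategory.homologyFunctor C i).obj X) := fun i hi => by
    haveI : IsSplitMono i₀ := ⟨⟨r₀, hir⟩⟩
    exact IsZero.of_mono ((DerivedCategory.homologyFunctor C i).map i₀)
      ((exactAt_iff_Q e i).1 (ExactAt.of_isZero (hE i hi)))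
  obtain ⟨K, ⟨eK⟩⟩ : ∃ K, Nonempty (Q.obj K ≅ X) := ⟨_, ⟨Q.objObjPreimageIso X⟩⟩
  obtain ⟨E', u, hP', hE', -, hq⟩ := exists_all_zero hsum hqs hql (fun n => (hpc n).of_iso eK.symm) (k := b + 1)
    fun i hi => (exactAt_iff_Q eK i).2 (hXz i (by omega))
  haveI : IsIso (Q.map u) := (DerivedCategory.isIso_Q_map_iff_quasiIso (C := C) u).2 hq
  let e' : Q.obj E' ≅ X := asIso (Q.map u) ≪≫ eK
  haveI := isKProjective_of_terms hlift E b (fun i hi => hE i (Or.inr hi)) hP
  haveI := isKProjective_of_terms hlift E' b (fun i hi => hE' i (by omega)) hP'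
  obtain ⟨ι, hι⟩ := exists_hom_of_isKProjective E' E (e'.hom ≫ i₀ ≫ e.inv)
  obtain ⟨r, hr⟩ := exists_hom_of_isKProjective E E' (e.hom ≫ r₀ ≫ e'.inv)
  have hid : Q.map (ι ≫ r) = Q.map (𝟙 E') := by
    rw [Q.map_comp, hι, hr, Q.map_id]; simp [reassoc_of% hir]
  have hH : (HomotopyCategory.quotient C (ComplexShape.up ℤ)).map (ι ≫ r) =
      (HomotopyCategory.quotient C (ComplexShape.up ℤ)).map (𝟙 E') := by
    apply (CochainComplex.IsKProjective.Qh_map_bijective E' _).injective
    have n₁ := (DerivedCategory.quotientCompQhIso C).hom.naturality (ι ≫ r)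
    have n₂ := (DerivedCategory.quotientCompQhIso C).hom.naturality (𝟙 E')
    rw [hid] at n₁
    exact (cancel_mono ((DerivedCategory.quotientCompQhIso C).hom.app E')).1 (n₁.trans n₂.symm)
  let h := HomotopyCategory.homotopyOfEq _ _ hH
  have hz : IsZero (E.X (a - 1)) := hE _ (by omega)
  have hι0 : E'.d (a - 1) a ≫ ι.f a = 0 := by
    rw [← ι.comm]; exact (hz.eq_of_tgt (ι.f (a - 1)) 0) ▸ zero_comp
  have hret : P (E'.opcycles a) := by
    let j : E'.opcycles a ⟶ E.X a ⊞ E'.X (a + 1) :=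
      biprod.lift (E'.descOpcycles (ι.f a) (a - 1) (by simp) hι0)
        (E'.descOpcycles (E'.d a (a + 1)) (a - 1) (by simp) (E'.d_comp_d _ _ _))
    let q : E.X a ⊞ E'.X (a + 1) ⟶ E'.opcycles a :=
      biprod.desc (r.f a ≫ E'.pOpcycles a) (-(h.hom (a + 1) a ≫ E'.pOpcycles a))
    have hjq : j ≫ q = 𝟙 _ := by
      rw [← cancel_epi (E'.pOpcycles a), Category.comp_id]
      simp only [j, q, biprod.lift_desc, Preadditive.comp_add, Preadditive.comp_neg,
        HomologicalComplex.p_descOpcycles_assoc]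
      have hc := h.comm a
      rw [dNext_eq h.hom (show (ComplexShape.up ℤ).Rel a (a + 1) from rfl),
        prevD_eq h.hom (show (ComplexShape.up ℤ).Rel (a - 1) a by simp), HomologicalComplex.comp_f,
        HomologicalComplex.id_f] at hc
      have hc' := congrArg (fun f => f ≫ E'.pOpcycles a) hc
      simp only [Preadditive.add_comp, Category.assoc, Category.id_comp, HomologicalComplex.d_pOpcycles,
        comp_zero, add_zero] at hc'
      rw [hc']; abel
    haveI : Mono j := mono_of_mono_fac hjq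
    let S := ShortComplex.mk j (cokernel.π j) (cokernel.condition j)
    let s : S.Splitting := ShortComplex.Splitting.ofExactOfRetraction S
      (ShortComplex.exact_of_g_is_cokernel _ (cokernelIsCokernel j)) q hjq inferInstance
    exact (hsummand _ _ (P.prop_of_iso s.isoBinaryBiproduct (P_biprod P hsum (hP a) (hP' (a + 1))))).1
  haveI : E'.IsGE a := (CochainComplex.isGE_iff E' a).2 fun i hi => (exactAt_iff_Q e' i).2 (hXz i (Or.inl hi))
  haveI : IsIso (Q.map (E'.πTruncGE a)) := (DerivedCategory.isIso_Q_map_iff_quasiIso (C := C) _).2 inferInstance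
  refine ⟨E'.truncGE a, fun i => ?_, fun i hi => ?_, ⟨(asIso (Q.map (E'.πTruncGE a))).symm ≪≫ e'⟩⟩
  · rcases lt_trichotomy a i with h' | rfl | h'
    · exact P.prop_of_iso (E'.truncGEXIso a i h').symm (hP' i)
    · exact P.prop_of_iso (E'.truncGEXIsoOpcycles a).symm hret
    · exact P.prop_of_isZero ((E'.truncGE a).isZero_of_isStrictlyGE a i h')
  · rcases hi with h' | h'
    · exact (E'.truncGE a).isZero_of_isStrictlyGE a i h'
    · exact (hE' i (by omega)).of_iso (E'.truncGEXIso a i (by omega))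

include hlift hst in
lemma amp_of_biprod (hsum : ∀ X Y : C, P X → P Y → P (X ⨯ Y))
    (hsummand : ∀ (E' E'' : C) [HasBinaryBiproduct E' E''], P (E' ⊞ E'') → P E' ∧ P E'')
    (a b : ℤ) (hab : a ≤ b) (F' F'' : DerivedCategory C) [HasBinaryBiproduct F' F'']
    (h : Amp P a b (F' ⊞ F'')) : Amp P a b F' ∧ Amp P a b F'' := by
  have hpc : ∀ n, PCn P n (F' ⊞ F'') := fun n => by
    obtain ⟨E, hP, hE, he⟩ := h
    exact ⟨E, ⟨⟨b, fun i hi => hE i (Or.inr hi)⟩, fun i _ => hP i⟩, he⟩
  have hb := fun n => (pcn_biprod_iff hsum (qs_of_hst hst) (ql_of_hlift hlift) n F' F'').1 (hpc n)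
  exact ⟨amp_summand hlift hst hsum hsummand a b hab F' _ biprod.inl biprod.fst biprod.inl_fst (fun n => (hb n).1) h,
    amp_summand hlift hst hsum hsummand a b hab F'' _ biprod.inr biprod.snd biprod.inr_snd (fun n => (hb n).2) h⟩

end D

end Groth.Agent.H7.PC
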